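import Groth.Agent.GrMod19.Gor.Hull
import Groth.Agent.InjHull18.Basic

/-!
A *canonical module localises to a canonical module.
-/

universe u

open DirectSum CategoryTheory GrLC
open Groth.Agent.LC16

namespace Groth.Agent.GrMod19.Gor

set_option autoImplicit false

variable {R : Type u} [CommRing R] [IsNoetherianRing R] {ι : Type} [AddCommGroup ι] [DecidableEq ι]
  [Module.Free ℤ ι] [Module.Finite ℤ ι] {𝒜 : ι → AddSubgroup R} [GradedRing 𝒜]
  {m : HomogeneousIdeal 𝒜} [hmp : m.toIdeal.IsPrime]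

/-- duality transported to the local ring -/
theorem nonempty_dual_localized {n : ℕ} {I : StarInjRes 𝒜 𝒜}
    {E : Type u} [AddCommGroup E] [Module R E] {𝓔 : ι → AddSubgroup E} [Decomposition 𝓔]
    [SetLike.GradedSMul 𝒜 𝓔] {e : (R ⧸ m.toIdeal) →ₗ[R] E} (he : IsStarInjHull 𝒜 (quotGr 𝒜 m) 𝓔 e)
    {C : Type u} [AddCommGroup C] [Module R C] [Module.Finite R C] (φ : (C →ₗ[R] E) ≃ₗ[R] I.H m n)
    {E₀ : Type u} [AddCommGroup E₀] [Module (Localization.AtPrime m.toIdeal) E₀]
    {f : IsLocalRing.ResidueField (Localization.AtPrime m.toIdeal) →ₗ[Localization.AtPrime m.toIdeal] E₀}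
    (hf : InjHull.IsInjectiveHull f) :
    Nonempty ((LocalizedModule m.toIdeal.primeCompl C →ₗ[Localization.AtPrime m.toIdeal] E₀)
      ≃ₗ[Localization.AtPrime m.toIdeal] LocCoh.H
        (IsLocalRing.maximalIdeal (Localization.AtPrime m.toIdeal)) n (Localization.AtPrime m.toIdeal)) := by
  let S := m.toIdeal.primeCompl
  let Rm := Localization.AtPrime m.toIdeal
  obtain ⟨g, hg⟩ := exists_hull_localized 𝓔 he
  obtain ⟨u, -⟩ := InjHull18.hull_unique hf hg
  obtain ⟨eH⟩ := nonempty_H_localized (m := m) I n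
  exact ⟨LinearEquiv.congrRight u ≪≫ₗ (ExtLocal.homEquiv S E C).symm ≪≫ₗ
    LinearEquiv.extendScalarsOfIsLocalization S Rm
      (IsLocalizedModule.iso S (LocalizedModule.mkLinearMap S (I.H m n) ∘ₗ φ.toLinearMap)) ≪≫ₗ eH⟩

end Groth.Agent.GrMod19.Gor
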