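import Groth.Agent.GrMod19.Gor.Top
import Groth.Agent.GrMod19.CMTop
import Groth.Agent.LC16.ExtRep
import Groth.Agent.LC15.ExtDepth
import Groth.Agent.InjHull18.Matlis
import Mathlib.LinearAlgebra.Dual.Lemmas
import Mathlib.RingTheory.TensorProduct.Basic

/-!
Canonical modules of graded rings defined over a field.
-/

universe u

open DirectSum CategoryTheory GrLC IsLocalRing
open Groth.Agent.LC16
open scoped TensorProduct

namespace Groth.Agent.GrMod19.Gor

set_option autoImplicit false

/-- the nonnegativity hypothesis of the rows -/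
theorem nonnegGr_of_bot {R : Type u} [CommRing R] {𝒜 : ℤ → AddSubgroup R}
    (hpos : ∀ n : ℤ, n < 0 → 𝒜 n = ⊥) : NonnegGr 𝒜 := fun n hn x hx => by
  rw [hpos n hn] at hx
  exact AddSubgroup.mem_bot.1 hx

/-- the dimension of the local ring at the maximal homogeneous ideal -/
theorem ringKrullDim_loc_star {R : Type u} [CommRing R] [IsNoetherianRing R] {𝒜 : ℤ → AddSubgroup R}
    [GradedRing 𝒜] (hpos : ∀ n : ℤ, n < 0 → 𝒜 n = ⊥) {m : HomogeneousIdeal 𝒜}
    (hm : IsStarLocal 𝒜 m) [m.toIdeal.IsPrime] {n : ℕ} (hn : ringKrullDim R = n) :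
    ringKrullDim (Localization.AtPrime m.toIdeal) = n := by
  rw [IsLocalization.AtPrime.ringKrullDim_eq_height m.toIdeal (Localization.AtPrime m.toIdeal),
    height_star_eq (nonnegGr_of_bot hpos) hm, hn]

section duality

variable {A : Type u} [CommRing A] {n : ℕ} {E K : Type u} [AddCommGroup E] [Module A E]
  [AddCommGroup K] [Module A K]

/-- a module with simple dual is simple -/
theorem isSimpleModule_of_dual [IsLocalRing A] [IsNoetherianRing A] {f : ResidueField A →ₗ[A] E}
    (hf : InjHull.IsInjectiveHull f) {X : Type u} [AddCommGroup X] [Module A X] [Nontrivial X]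
    (h : IsSimpleModule A (X →ₗ[A] E)) : IsSimpleModule A X := by
  refine isSimpleModule_iff_toSpanSingleton_surjective.2 ⟨inferInstance, fun x hx => ?_⟩
  rw [← LinearMap.range_eq_top, ← Submodule.Quotient.subsingleton_iff]
  let q := (LinearMap.range (LinearMap.toSpanSingleton A X x)).mkQ
  let P : (X ⧸ LinearMap.range (LinearMap.toSpanSingleton A X x) →ₗ[A] E) →ₗ[A] (X →ₗ[A] E) :=
    LinearMap.lcomp A E q
  have hP : Function.Injective P := fun a b hab => Submodule.linearMap_qext _ hab
  rcases h.1.eq_bot_or_eq_top (LinearMap.range P) with hb | ht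
  · have : Subsingleton (X ⧸ LinearMap.range (LinearMap.toSpanSingleton A X x) →ₗ[A] E) :=
      subsingleton_of_forall_eq 0 fun φ => hP (by
        rw [map_zero, ← LinearMap.mem_ker, LinearMap.range_eq_bot.1 hb, LinearMap.ker_zero]
        trivial)
    exact MatlisBasic.subsingleton_of_dual hf
  · -- every functional kills `x`
    refine absurd (?_ : x = 0) hx
    have hsub : Subsingleton ((A ∙ x) →ₗ[A] E) := subsingleton_of_forall_eq 0 fun ψ => by
      obtain ⟨φ, hφ⟩ := hf.isInjective.out (A ∙ x).subtype (A ∙ x).subtype_injective ψ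
      obtain ⟨χ, rfl⟩ := LinearMap.range_eq_top.1 ht φ
      refine LinearMap.ext fun y => ?_
      obtain ⟨y, hy⟩ := y
      obtain ⟨a, rfl⟩ := Submodule.mem_span_singleton.1 hy
      have : q x = 0 := (Submodule.Quotient.mk_eq_zero _).2 ⟨1, one_smul A x⟩
      rw [← hφ]
      simp [P, map_smul, this]
    have := MatlisBasic.subsingleton_of_dual (X := (A ∙ x)) hf
    simpa using congrArg Subtype.val (Subsingleton.elim
      (⟨x, Submodule.mem_span_singleton_self x⟩ : (A ∙ x)) 0)

variable [LocCoh.IsCohenMacaulayLocalRing A] {f : ResidueField A →ₗ[A] E}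

/-- the type of the canonical module -/
theorem length_EK_residueField (hn : ringKrullDim A = n) (hf : InjHull.IsInjectiveHull f)
    (eK : (K →ₗ[A] E) ≃ₗ[A] LocCoh.H (maximalIdeal A) n A) :
    Module.length A (CanonDual.EK (R := A) K (ResidueField A) n) = 1 := by
  have := hf.isInjective
  obtain ⟨e⟩ := CanonDual.duality hn eK n 0 (add_zero n) (ResidueField A)
  have hg : LC15.gamma (maximalIdeal A) (ResidueField A) = ⊤ :=
    (LC15.gamma_eq_top_iff _).2 (InjHull18.isPowerTorsion_quotient (R := A))
  have : IsSimpleModule A (ResidueField A) :=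
    isSimpleModule_iff_isCoatom.2 (maximalIdeal.isMaximal A).out
  have hX : Nontrivial (CanonDual.EK (R := A) K (ResidueField A) n) :=
    not_subsingleton_iff_nontrivial.1 (CanonDual.not_subsingleton_EK_residueField hn hf eK)
  have := isSimpleModule_of_dual hf (X := CanonDual.EK (R := A) K (ResidueField A) n)
    (IsSimpleModule.congr (e.symm ≪≫ₗ LC15.H0equiv _ _ ≪≫ₗ LinearEquiv.ofTop _ hg))
  exact Module.length_eq_one A _

/-- the top Ext of the residue field into the ring -/
theorem nonempty_ext_self_equiv (hn : ringKrullDim A = n) (hf : InjHull.IsInjectiveHull f)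
    (eK : (K →ₗ[A] E) ≃ₗ[A] LocCoh.H (maximalIdeal A) n A) :
    Nonempty (CanonDual.EK (R := A) A (ResidueField A) n ≃ₗ[A] (K →ₗ[A] ResidueField A)) := by
  have hvan : ExtRep.Vanish (maximalIdeal A) n A := fun F' _ _ _ ⟨t, ht⟩ i hi =>
    LC15.subsingleton_ext_of_H (fun x => ⟨t, fun a ha => ht a ha x⟩) n A
      (CanonSeq.pair_self hn eK).low i (by omega)
  obtain ⟨e₁⟩ := ExtRep.nonempty_equiv hvan (ResidueField A) (by
    intro p hp
    rw [show Module.support A (ResidueField A) = PrimeSpectrum.zeroLocus (maximalIdeal A : Set A)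
      from LC15.support_quotient_ideal _] at hp
    exact hp)
  obtain ⟨J, hJ, ⟨s⟩⟩ := isSimpleModule_iff_quot_maximal.1
    (InjHull18.isSimpleModule_linearMap (m := maximalIdeal A) (f := f) hf.toIsEssentialInj)
  obtain rfl := IsLocalRing.eq_maximalIdeal hJ
  exact ⟨e₁ ≪≫ₗ LinearEquiv.congrRight eK.symm ≪≫ₗ LinearMap.lflip ≪≫ₗ LinearEquiv.congrRight s⟩

end duality

/-- maps out of a localisation at a maximal ideal into the residue field -/
theorem length_hom_residueField {R : Type u} [CommRing R] (P : Ideal R) [P.IsMaximal]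
    (C : Type u) [AddCommGroup C] [Module R C] [Module.Finite R C] :
    Module.length (Localization.AtPrime P) (LocalizedModule P.primeCompl C
        →ₗ[Localization.AtPrime P] ResidueField (Localization.AtPrime P)) =
      (Module.finrank (R ⧸ P) ((R ⧸ P) ⊗[R] C) : ℕ∞) := by
  let : Field (R ⧸ P) := Ideal.Quotient.field P
  let S := P.primeCompl
  let Rp := Localization.AtPrime P
  let k := ResidueField Rp
  let mk := LocalizedModule.mkLinearMap S C
  let ek : (R ⧸ P) ≃ₐ[R] k :=
    AlgEquiv.ofRingEquiv (f := IsLocalization.AtPrime.equivQuotMaximalIdeal P Rp) fun r => rfl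
  have hk : Function.Surjective (algebraMap R k) := fun x => by
    obtain ⟨r, hr⟩ := Ideal.Quotient.mk_surjective (ek.symm x)
    exact ⟨r, by rw [← ek.apply_symm_apply x, ← hr, ← Ideal.Quotient.algebraMap_eq, ek.commutes]⟩
  have hkunit : ∀ s : S, IsUnit (algebraMap R (Module.End R k) s) := fun s => by
    rw [Module.End.isUnit_iff]
    have hu : IsUnit (algebraMap Rp k (algebraMap R Rp s)) :=
      (IsLocalization.map_units Rp s).map (algebraMap Rp k)
    refine Function.bijective_iff_has_inverse.2 ⟨fun x => (↑hu.unit⁻¹ : k) * x, fun x => ?_, fun x => ?_⟩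
    · rw [Module.algebraMap_end_apply, Algebra.smul_def, IsScalarTower.algebraMap_apply R Rp k]
      dsimp only
      rw [← mul_assoc, IsUnit.val_inv_mul, one_mul]
    · rw [Module.algebraMap_end_apply, Algebra.smul_def, IsScalarTower.algebraMap_apply R Rp k,
        ← mul_assoc, IsUnit.mul_val_inv, one_mul]
  let res : (LocalizedModule S C →ₗ[Rp] k) →ₗ[R] (C →ₗ[R] k) :=
    { toFun := fun φ => φ.restrictScalars R ∘ₗ mk
      map_add' := fun _ _ => rfl
      map_smul' := fun _ _ => rfl }
  have hres : Function.Bijective res := by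
    refine ⟨fun φ ψ h => LinearMap.restrictScalars_injective R
      (IsLocalizedModule.ext S mk hkunit h), fun ψ => ?_⟩
    refine ⟨LinearMap.extendScalarsOfIsLocalization S Rp (IsLocalizedModule.lift S mk ψ hkunit), ?_⟩
    exact IsLocalizedModule.lift_comp S mk ψ hkunit
  rw [Module.length_eq_of_surjective (R := k) (S := Rp) Ideal.Quotient.mk_surjective,
    ← Module.length_eq_of_surjective (R := k) (S := R) hk,
    (LinearEquiv.ofBijective res hres ≪≫ₗ LinearEquiv.congrRight ek.symm.toLinearEquiv).length_eq,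
    Module.length_eq_of_surjective (R := R ⧸ P) (S := R) Ideal.Quotient.mk_surjective,
    (LinearMap.liftBaseChangeEquiv (R ⧸ P) (M := C) (N := R ⧸ P)).length_eq,
    Module.length_eq_finrank]
  exact_mod_cast Subspace.dual_finrank_eq

end Groth.Agent.GrMod19.Gor
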