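import Groth.Agent.GrMod19.StarInj
import Groth.Agent.GrMod19.Res
import Groth.Agent.GrMod19.Positive
import Groth.Agent.GrMod19.HPos
import Groth.Agent.GrInj18.Prime

/-!
A *canonical module over a field as the graded dual of top local cohomology.
-/

universe u

open DirectSum GrLC

namespace Groth.Agent.GrMod19.Pairing

set_option autoImplicit false

variable {R : Type u} [CommRing R] {𝒜 : ℤ → AddSubgroup R} [GradedRing 𝒜]

/-- a perfect graded pairing into the degree-zero ring -/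
structure IsPerfect {C : Type u} [AddCommGroup C] [Module R C] (𝒞 : ℤ → AddSubgroup C)
    [SetLike.GradedSMul 𝒜 𝒞] {H : Type u} [AddCommGroup H] [Module R H] (ℋ : ℤ → Submodule (deg0 𝒜) H)
    (β : H →+ C →+ deg0 𝒜) : Prop where
  balanced : ∀ (a : R) (h : H) (c : C), β (a • h) c = β h (a • c)
  linear : ∀ (a : deg0 𝒜) (h : H) (c : C), β h ((a : R) • c) = a * β h c
  orth : ∀ (d e : ℤ), ∀ h ∈ ℋ d, ∀ c ∈ 𝒞 e, d + e ≠ 0 → β h c = 0
  unique : ∀ (d : ℤ), ∀ h ∈ ℋ d, (∀ c ∈ 𝒞 (-d), β h c = 0) → h = 0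
  onto : ∀ (d : ℤ) (F : GrLC.comp 𝒜 𝒞 (-d) →ₗ[deg0 𝒜] deg0 𝒜),
    ∃ h ∈ ℋ d, ∀ c : GrLC.comp 𝒜 𝒞 (-d), β h c.1 = F c

variable [IsNoetherianRing R] (hpos : ∀ n : ℤ, n < 0 → 𝒜 n = ⊥) (h0 : IsField (deg0 𝒜))
  {m : HomogeneousIdeal 𝒜} (hm : IsStarLocal 𝒜 m)
  (hmsp : m.toIdeal = Ideal.span (⋃ n ∈ Set.Ioi (0 : ℤ), (𝒜 n : Set R)))
  {E : Type u} [AddCommGroup E] [Module R E] {𝓔 : ℤ → AddSubgroup E} [Decomposition 𝓔]
  [SetLike.GradedSMul 𝒜 𝓔] {e : (R ⧸ m.toIdeal) →ₗ[R] E} (he : IsStarInjHull 𝒜 (quotGr 𝒜 m) 𝓔 e)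

include hm he in
omit [IsNoetherianRing R] in
lemma one_ne : e (Ideal.Quotient.mk m.toIdeal 1) ≠ 0 := fun h => hm.1.1 (HomogeneousIdeal.ext
  ((Ideal.eq_top_iff_one _).2 (Ideal.Quotient.eq_zero_iff_mem.1 (he.injective (h.trans (map_zero e).symm)))))

include he in
omit [IsNoetherianRing R] in
lemma one_mem : e (Ideal.Quotient.mk m.toIdeal 1) ∈ 𝓔 0 :=
  he.grHom 0 _ ⟨1, SetLike.GradedOne.one_mem (A := 𝒜), rfl⟩

omit [IsNoetherianRing R] [Decomposition 𝓔] [SetLike.GradedSMul 𝒜 𝓔] in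
lemma mk_eq_smul (b : R) :
    e (Ideal.Quotient.mk m.toIdeal b) = b • e (Ideal.Quotient.mk m.toIdeal 1) := by
  rw [← map_smul]
  congr 1
  show _ = Ideal.Quotient.mk m.toIdeal (b * 1)
  rw [mul_one]

include hmsp in
omit [IsNoetherianRing R] [Decomposition 𝓔] [SetLike.GradedSMul 𝒜 𝓔] in
lemma pos_smul {i : ℤ} (hi : 0 < i) {a : R} (ha : a ∈ 𝒜 i) :
    a • e (Ideal.Quotient.mk m.toIdeal 1) = 0 := by
  rw [← mk_eq_smul, Ideal.Quotient.eq_zero_iff_mem.2 (hmsp ▸ Ideal.subset_span (Set.mem_biUnion hi ha)),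
    map_zero]

include hpos hmsp he in
omit [IsNoetherianRing R] in
lemma range_mem (b : R) : e (Ideal.Quotient.mk m.toIdeal b) ∈ 𝓔 0 := by
  induction b using piece_induction 𝒜 with
  | h0 => simp
  | hadd p p' hp hp' => rw [map_add, map_add]; exact add_mem hp hp'
  | hp i p hp =>
    rcases lt_trichotomy i 0 with hi | rfl | hi
    · rw [hpos i hi] at hp
      simp [AddSubgroup.mem_bot.1 hp]
    · exact he.grHom 0 _ ⟨p, hp, rfl⟩
    · rw [mk_eq_smul, pos_smul hmsp hi hp]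
      exact zero_mem _

include hpos h0 hm hmsp he in
omit [IsNoetherianRing R] in
/-- the socle is the degree-zero piece -/
lemma existsUnique_coef {x : E} (hx : x ∈ 𝓔 0) :
    ∃! a : deg0 𝒜, (a : R) • e (Ideal.Quotient.mk m.toIdeal 1) = x := by
  have h1 := one_ne hm he
  have huniq : ∀ a : deg0 𝒜, (a : R) • e (Ideal.Quotient.mk m.toIdeal 1) = 0 → a = 0 := fun a ha => by
    by_contra hne
    obtain ⟨b, hb⟩ := h0.mul_inv_cancel hne
    refine h1 ?_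
    have hba : (b : R) * (a : R) = 1 := by rw [mul_comm]; exact congrArg Subtype.val hb
    have h2 : (b : R) • (a : R) • e (Ideal.Quotient.mk m.toIdeal 1) = 0 := by rw [ha, smul_zero]
    rwa [smul_smul, hba, one_smul] at h2
  suffices h : ∃ a : deg0 𝒜, (a : R) • e (Ideal.Quotient.mk m.toIdeal 1) = x by
    obtain ⟨a, ha⟩ := h
    refine ⟨a, ha, fun b hb => sub_eq_zero.1 (huniq _ ?_)⟩
    rw [AddSubgroupClass.coe_sub, sub_smul, hb, ha, sub_self]
  rcases eq_or_ne x 0 with rfl | hne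
  · exact ⟨0, by simp⟩
  have hP : (Submodule.span R {x}).IsHomogeneous 𝓔 :=
    GrMod19.isHomogeneous_span (𝒜 := 𝒜) 𝓔 fun y hy => ⟨0, (Set.mem_singleton_iff.1 hy) ▸ hx⟩
  obtain ⟨z, ⟨hz, t, rfl⟩, hz0⟩ := (Submodule.ne_bot_iff _).1
    (he.essential _ hP ((Submodule.span_singleton_eq_bot).not.2 hne))
  obtain ⟨r, hr⟩ := Submodule.mem_span_singleton.1 hz
  obtain ⟨b, rfl⟩ := Ideal.Quotient.mk_surjective t
  have hb := mk_eq_smul (e := e) b
  have hb0 := range_mem hpos hmsp he b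
  have hr0 : cmp 𝒜 0 r • x = cmp 𝒜 0 b • e (Ideal.Quotient.mk m.toIdeal 1) := by
    have h2 := congrArg (cmp 𝓔 0) (hr.trans hb)
    rwa [cmp_smul_homog_right 𝒜 𝓔 0 hx, cmp_smul_homog_right 𝒜 𝓔 0 (one_mem he), sub_zero] at h2
  have hne0 : (⟨cmp 𝒜 0 r, cmp_mem 𝒜 0 r⟩ : deg0 𝒜) ≠ 0 := fun h => hz0 (by
    rw [← cmp_of_mem 𝓔 hb0, ← hr, cmp_smul_homog_right 𝒜 𝓔 0 hx, sub_zero,
      show cmp 𝒜 0 r = 0 from congrArg Subtype.val h, zero_smul])
  obtain ⟨s, hs⟩ := h0.mul_inv_cancel hne0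
  refine ⟨s * ⟨cmp 𝒜 0 b, cmp_mem 𝒜 0 b⟩, ?_⟩
  rw [Subring.coe_mul, mul_smul, ← hr0, smul_smul, mul_comm]
  exact (congrArg (· • x) (congrArg Subtype.val hs)).trans (one_smul R x)

include hpos h0 hm hmsp he in
omit [IsNoetherianRing R] in
/-- a homogeneous identification with maps into the envelope gives a perfect pairing -/
theorem perfect_of_equiv {C : Type u} [AddCommGroup C] [Module R C] (𝒞 : ℤ → AddSubgroup C)
    [Decomposition 𝒞] [SetLike.GradedSMul 𝒜 𝒞] {H : Type u} [AddCommGroup H] [Module R H]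
    (ℋ : ℤ → Submodule (deg0 𝒜) H) (φ : (C →ₗ[R] E) ≃ₗ[R] H)
    (hφ : ∀ d, ∀ f, IsGrHomDeg 𝒞 𝓔 f d → φ f ∈ ℋ d)
    (hsymm : ∀ d, ∀ h ∈ ℋ d, IsGrHomDeg 𝒞 𝓔 (φ.symm h) d) :
    ∃ β : H →+ C →+ deg0 𝒜, IsPerfect 𝒞 ℋ β := by
  classical
  let e₁ := e (Ideal.Quotient.mk m.toIdeal 1)
  have hcoef := fun x : E => existsUnique_coef hpos h0 hm hmsp he (cmp_mem 𝓔 0 x)
  choose lam hlam hlamu using hcoef
  have hadd : ∀ x y, lam (x + y) = lam x + lam y := fun x y => (hlamu (x + y) _ (by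
    simp only [AddMemClass.coe_add, add_smul, hlam, map_add])).symm
  have hlin : ∀ (a : deg0 𝒜) x, lam ((a : R) • x) = a * lam x := fun a x => (hlamu _ _ (by
    simp only [Subring.coe_mul, mul_smul, hlam]
    rw [cmp_smul_homog_left 𝒜 𝓔 0 a.2, sub_zero])).symm
  let β : H →+ C →+ deg0 𝒜 := AddMonoidHom.mk'
    (fun h => AddMonoidHom.mk' (fun c => lam (φ.symm h c)) fun c c' => by simp only [map_add, hadd])
    (fun h h' => AddMonoidHom.ext fun c => by simp [hadd])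
  refine ⟨β, fun a h c => ?_, fun a h c => ?_, fun d k h hh c hc hne => ?_, fun d h hh hc => ?_, fun d F => ?_⟩
  · show lam (φ.symm (a • h) c) = lam (φ.symm h (a • c))
    simp
  · show lam (φ.symm h ((a : R) • c)) = _
    rw [map_smul, hlin]
    rfl
  · refine (hlamu _ 0 ?_).symm
    simp [cmp_of_ne 𝓔 (hsymm d h hh k c hc) (show k + d ≠ 0 by omega)]
  · refine φ.symm.injective (LinearMap.ext fun x => ?_)
    rw [map_zero, LinearMap.zero_apply]
    induction x using piece_induction 𝒞 with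
    | h0 => simp
    | hadd p p' hp hp' => simp [hp, hp']
    | hp k c hck =>
      by_contra hne
      have hP : (Submodule.span R {φ.symm h c}).IsHomogeneous 𝓔 :=
        GrMod19.isHomogeneous_span (𝒜 := 𝒜) 𝓔 fun y hy =>
          ⟨k + d, (Set.mem_singleton_iff.1 hy) ▸ hsymm d h hh k c hck⟩
      obtain ⟨z, ⟨hz, t, rfl⟩, hz0⟩ := (Submodule.ne_bot_iff _).1
        (he.essential _ hP ((Submodule.span_singleton_eq_bot).not.2 hne))
      obtain ⟨r, hr⟩ := Submodule.mem_span_singleton.1 hz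
      obtain ⟨b, rfl⟩ := Ideal.Quotient.mk_surjective t
      have hb0 : cmp 𝓔 0 (r • φ.symm h c) ≠ 0 := by
        rw [hr]
        have hbm := range_mem hpos hmsp he b
        rwa [cmp_of_mem 𝓔 hbm]
      rw [cmp_smul_homog_right 𝒜 𝓔 0 (hsymm d h hh k c hck), ← map_smul] at hb0
      have h3 := hc (cmp 𝒜 (0 - (k + d)) r • c)
        ((show 0 - (k + d) + k = -d by ring) ▸ smul_mem_add 𝒜 𝒞 (cmp_mem 𝒜 _ r) hck)
      refine hb0 ?_
      have h4 := hlam (φ.symm h (cmp 𝒜 (0 - (k + d)) r • c))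
      rw [show lam (φ.symm h (cmp 𝒜 (0 - (k + d)) r • c)) = 0 from h3, ZeroMemClass.coe_zero, zero_smul] at h4
      rw [h4]
      refine (cmp_of_mem 𝓔 ?_).symm
      rw [map_smul]
      have h6 := smul_mem_add 𝒜 𝓔 (cmp_mem 𝒜 (0 - (k + d)) r) (hsymm d h hh k c hck)
      rwa [show 0 - (k + d) + (k + d) = (0 : ℤ) by ring] at h6
  · let P : Submodule R C := Submodule.span R (𝒞 (-d) : Set C)
    have hP : P.IsHomogeneous 𝒞 := GrMod19.isHomogeneous_span (𝒜 := 𝒜) 𝒞 fun y hy => ⟨-d, hy⟩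
    have hlow : ∀ x ∈ P, ∀ k, k < -d → cmp 𝒞 k x = 0 := by
      intro x hx
      induction hx using Submodule.span_induction with
      | mem y hy => exact fun k hk => cmp_of_ne 𝒞 hy (by omega)
      | zero => simp
      | add p p' _ _ hp hp' => exact fun k hk => by simp [hp k hk, hp' k hk]
      | smul a p _ hp =>
        intro k hk
        induction a using piece_induction 𝒜 with
        | h0 => simp
        | hadd a b ha hb => simp [add_smul, ha, hb]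
        | hp i a ha =>
          rcases lt_or_ge i 0 with hi | hi
          · rw [hpos i hi] at ha
            simp [AddSubgroup.mem_bot.1 ha]
          · rw [cmp_smul_homog_left 𝒜 𝒞 k ha, hp (k - i) (by omega), smul_zero]
    let F' : C →+ deg0 𝒜 := AddMonoidHom.mk' (fun x => F ⟨cmp 𝒞 (-d) x, cmp_mem 𝒞 _ x⟩) fun x y => by
      rw [← map_add]
      exact congrArg F (Subtype.ext (map_add _ _ _))
    have hsm : ∀ (a : R) (x : P), (F' (a • (x : C)) : R) • e₁ = a • ((F' (x : C) : R) • e₁) := fun a x => by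
      induction a using piece_induction 𝒜 with
      | h0 => simp
      | hadd a b ha hb => simp [add_smul, ha, hb]
      | hp i a ha =>
        rcases lt_trichotomy i 0 with hi | rfl | hi
        · rw [hpos i hi] at ha
          simp [AddSubgroup.mem_bot.1 ha]
        · have h2 : (⟨cmp 𝒞 (-d) (a • (x : C)), cmp_mem 𝒞 _ _⟩ : GrLC.comp 𝒜 𝒞 (-d)) =
              (⟨a, ha⟩ : deg0 𝒜) • ⟨cmp 𝒞 (-d) x, cmp_mem 𝒞 _ _⟩ := Subtype.ext (by
            show cmp 𝒞 (-d) (a • (x : C)) = a • cmp 𝒞 (-d) (x : C)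
            rw [cmp_smul_homog_left 𝒜 𝒞 (-d) ha, sub_zero])
          show ((F ⟨cmp 𝒞 (-d) (a • (x : C)), _⟩ : deg0 𝒜) : R) • e₁ = _
          rw [h2, map_smul, smul_eq_mul, Subring.coe_mul, mul_smul]
          rfl
        · have hz : a • e₁ = 0 := pos_smul hmsp hi ha
          rw [smul_comm, hz, smul_zero]
          show ((F ⟨cmp 𝒞 (-d) (a • (x : C)), _⟩ : deg0 𝒜) : R) • e₁ = 0
          rw [show (⟨cmp 𝒞 (-d) (a • (x : C)), _⟩ : GrLC.comp 𝒜 𝒞 (-d)) = 0 from Subtype.ext (by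
            show cmp 𝒞 (-d) (a • (x : C)) = 0
            rw [cmp_smul_homog_left 𝒜 𝒞 (-d) ha, hlow x x.2 _ (by omega), smul_zero]), map_zero,
            ZeroMemClass.coe_zero, zero_smul]
    let g : P →ₗ[R] E :=
      { toFun := fun x => (F' (x : C) : R) • e₁
        map_add' := fun x y => by simp [add_smul]
        map_smul' := hsm }
    have hg : IsGrHomDeg (GrMod19.sub (𝒜 := 𝒜) 𝒞 P hP).gr 𝓔 g d := fun k x hx => by
      show (F' (x : C) : R) • e₁ ∈ 𝓔 (k + d)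
      by_cases hk : k = -d
      · subst hk
        rw [neg_add_cancel]
        exact (zero_add (0 : ℤ)) ▸ smul_mem_add 𝒜 𝓔 (F' (x : C)).2 (one_mem he)
      · rw [show F' (x : C) = F 0 from congrArg F (Subtype.ext
          (cmp_of_ne 𝒞 (hx : (x : C) ∈ 𝒞 k) hk)), map_zero, ZeroMemClass.coe_zero, zero_smul]
        exact zero_mem _
    obtain ⟨f, hf, hfP⟩ := GrMod19.exists_extend he.starInj (GrMod19.sub (𝒜 := 𝒜) 𝒞 P hP)
      (GrLC.GMod.of 𝒜 C 𝒞) P.subtype (GrMod19.sub_subtype_grHom 𝒞 P hP) P.injective_subtype g d hg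
    let f' : C →ₗ[R] E := f
    refine ⟨φ f', hφ d f' hf, fun c => ?_⟩
    show lam (φ.symm (φ f') c.1) = _
    rw [φ.symm_apply_apply]
    refine (hlamu _ _ ?_).symm
    have h5 : f' c.1 = (F' c.1 : R) • e₁ :=
      LinearMap.congr_fun hfP (⟨c.1, Submodule.subset_span c.2⟩ : P)
    rw [h5, show F' c.1 = F c from congrArg F (Subtype.ext (cmp_of_mem 𝒞 c.2))]
    exact (cmp_of_mem 𝓔 ((zero_add (0 : ℤ)) ▸ smul_mem_add 𝒜 𝓔 (F c).2 (one_mem he))).symm

include hpos h0 hm hmsp he in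
/-- the canonical module pairs perfectly with the local cohomology -/
theorem exists_perfect {C : Type u} [AddCommGroup C] [Module R C] (𝒞 : ℤ → AddSubgroup C)
    [Decomposition 𝒞] [SetLike.GradedSMul 𝒜 𝒞] {n : ℕ} {I : StarInjRes 𝒜 𝒜}
    (hC : IsStarCanonical 𝒜 𝒞 𝓔 m n I) :
    ∃ β : I.H m n →+ C →+ deg0 𝒜, IsPerfect 𝒞 (I.Hcomp m n) β := by
  classical
  obtain ⟨hfin, φ, hφ⟩ := hC
  refine perfect_of_equiv hpos h0 hm hmsp he 𝒞 (I.Hcomp m n) φ (fun d f hf => hφ d f hf) fun d h hh => ?_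
  let : Decomposition (I.Hgr m n) := (isInternal_Hgr I m n).chooseDecomposition
  obtain ⟨D, hD⟩ := GrInj18.exists_sum_degPart 𝒜 𝒞 𝓔 (φ.symm h)
  have hmem : ∀ g, φ (GrInj18.degPart 𝒜 𝒞 𝓔 g (φ.symm h)) ∈ I.Hgr m n g := fun g =>
    hφ g _ (GrInj18.isGrHomDeg_degPart 𝒜 𝒞 𝓔 g _)
  have hsum : h = ∑ g ∈ D, φ (GrInj18.degPart 𝒜 𝒞 𝓔 g (φ.symm h)) := by
    rw [← map_sum, hD, φ.apply_symm_apply]
  have hd : h = cmp (I.Hgr m n) d h := (cmp_of_mem (I.Hgr m n) hh).symm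
  rw [hd]
  nth_rewrite 1 [hsum]
  rw [map_sum, map_sum]
  refine (homDeg 𝒜 𝒞 𝓔 d).sum_mem fun g _ => ?_
  by_cases hg : g = d
  · subst hg
    rw [cmp_of_mem _ (hmem g), φ.symm_apply_apply]
    exact GrInj18.isGrHomDeg_degPart 𝒜 𝒞 𝓔 g _
  · rw [cmp_of_ne _ (hmem g) hg, map_zero]
    exact zero_mem _

omit [GradedRing 𝒜] [IsNoetherianRing R] in
/-- the degree of a functional -/
theorem IsPerfect.cmp_right {C : Type u} [AddCommGroup C] [Module R C] {𝒞 : ℤ → AddSubgroup C}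
    [Decomposition 𝒞] [SetLike.GradedSMul 𝒜 𝒞] {H : Type u} [AddCommGroup H] [Module R H]
    [GradedRing 𝒜] {ℋ : ℤ → Submodule (deg0 𝒜) H} {β : H →+ C →+ deg0 𝒜} (hβ : IsPerfect 𝒞 ℋ β)
    {d : ℤ} {h : H} (hh : h ∈ ℋ d) (c : C) : β h c = β h (cmp 𝒞 (-d) c) := by
  induction c using piece_induction 𝒞 with
  | h0 => simp
  | hadd p p' hp hp' => rw [map_add, map_add, map_add, hp, hp']
  | hp k p hp =>
    by_cases hk : k = -d
    · subst hk; rw [cmp_of_mem 𝒞 hp]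
    · rw [cmp_of_ne 𝒞 hp hk, map_zero, hβ.orth d k h hh p hp (by omega)]

omit [IsNoetherianRing R] in
/-- pairings are injective -/
theorem IsPerfect.injective {C : Type u} [AddCommGroup C] [Module R C] {𝒞 : ℤ → AddSubgroup C}
    [Decomposition 𝒞] [SetLike.GradedSMul 𝒜 𝒞] {H : Type u} [AddCommGroup H] [Module R H]
    {ℋ : ℤ → Submodule (deg0 𝒜) H} {β : H →+ C →+ deg0 𝒜} (hβ : IsPerfect 𝒞 ℋ β)
    (hsum : ∀ h : H, ∃ (D : Finset ℤ) (f : ℤ → H), (∀ d, f d ∈ ℋ d) ∧ ∑ d ∈ D, f d = h) :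
    Function.Injective β := by
  refine (injective_iff_map_eq_zero β).2 fun h hh => ?_
  obtain ⟨D, f, hf, rfl⟩ := hsum h
  refine Finset.sum_eq_zero fun d hd => hβ.unique d (f d) (hf d) fun c hc => ?_
  have h1 := congrArg (fun g : C →+ deg0 𝒜 => g c) hh
  simp only [map_sum, AddMonoidHom.coe_finsetSum, Finset.sum_apply, AddMonoidHom.zero_apply] at h1
  rwa [Finset.sum_eq_single_of_mem d hd fun k _ hk => hβ.orth k (-d) (f k) (hf k) c hc (by omega)] at h1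

/-- two perfect pairings with the same module -/
theorem IsPerfect.exists_equiv {C : Type u} [AddCommGroup C] [Module R C] {𝒞 : ℤ → AddSubgroup C}
    [Decomposition 𝒞] [SetLike.GradedSMul 𝒜 𝒞] {H : Type u} [AddCommGroup H] [Module R H]
    {ℋ : ℤ → Submodule (deg0 𝒜) H} {β : H →+ C →+ deg0 𝒜} (hβ : IsPerfect 𝒞 ℋ β)
    (hsum : ∀ h : H, ∃ (D : Finset ℤ) (f : ℤ → H), (∀ d, f d ∈ ℋ d) ∧ ∑ d ∈ D, f d = h)
    {H' : Type u} [AddCommGroup H'] [Module R H']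
    {ℋ' : ℤ → Submodule (deg0 𝒜) H'} {β' : H' →+ C →+ deg0 𝒜} (hβ' : IsPerfect 𝒞 ℋ' β')
    (hsum' : ∀ h : H', ∃ (D : Finset ℤ) (f : ℤ → H'), (∀ d, f d ∈ ℋ' d) ∧ ∑ d ∈ D, f d = h) :
    ∃ ψ : H ≃ₗ[R] H', ∀ d, ∀ h ∈ ℋ d, ψ h ∈ ℋ' d := by
  have key : ∀ {H : Type u} [AddCommGroup H] [Module R H] {ℋ : ℤ → Submodule (deg0 𝒜) H}
      {β : H →+ C →+ deg0 𝒜}, IsPerfect 𝒞 ℋ β → ∀ {H' : Type u} [AddCommGroup H'] [Module R H']
      {ℋ' : ℤ → Submodule (deg0 𝒜) H'} {β' : H' →+ C →+ deg0 𝒜}, IsPerfect 𝒞 ℋ' β' →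
      ∀ d, ∀ h ∈ ℋ d, ∃ h' ∈ ℋ' d, β' h' = β h := by
    intro H _ _ ℋ β hβ H' _ _ ℋ' β' hβ' d h hh
    obtain ⟨h', hh', he⟩ := hβ'.onto d
      { toFun := fun c => β h c.1
        map_add' := fun c c' => map_add (β h) c.1 c'.1
        map_smul' := fun a c => hβ.linear a h c.1 }
    refine ⟨h', hh', AddMonoidHom.ext fun c => ?_⟩
    rw [hβ.cmp_right hh c, hβ'.cmp_right hh' c]
    exact he ⟨_, cmp_mem 𝒞 (-d) c⟩
  have hinj := hβ'.injective hsum'
  have hex : ∀ h, ∃ h', β' h' = β h := fun h => by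
    obtain ⟨D, f, hf, rfl⟩ := hsum h
    choose g hg hge using fun d => key hβ hβ' d (f d) (hf d)
    exact ⟨∑ d ∈ D, g d, by rw [map_sum, map_sum]; exact Finset.sum_congr rfl fun d _ => hge d⟩
  choose ψ hψ using hex
  let F : H →ₗ[R] H' :=
    { toFun := ψ
      map_add' := fun a b => hinj (by rw [map_add, hψ, hψ, hψ, map_add])
      map_smul' := fun a b => hinj (AddMonoidHom.ext fun c => by
        rw [hψ, RingHom.id_apply, hβ.balanced, hβ'.balanced, hψ]) }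
  have hbij : Function.Bijective F := by
    refine ⟨fun a b hab => hβ.injective hsum ?_, fun h' => ?_⟩
    · rw [← hψ a, ← hψ b]
      exact congrArg β' hab
    · obtain ⟨D, f, hf, rfl⟩ := hsum' h'
      choose g hg hge using fun d => key hβ' hβ d (f d) (hf d)
      exact ⟨∑ d ∈ D, g d, hinj (by
        show β' (ψ _) = _
        rw [hψ, map_sum, map_sum]
        exact Finset.sum_congr rfl fun d _ => hge d)⟩
  refine ⟨LinearEquiv.ofBijective F hbij, fun d h hh => ?_⟩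
  obtain ⟨h', hh', he'⟩ := key hβ hβ' d h hh
  show ψ h ∈ ℋ' d
  rwa [← hinj (he'.trans (hψ h).symm)]

include hpos h0 hm hmsp he in
/-- a module paired perfectly with the local cohomology is canonical -/
theorem starCanonical_of_perfect {C : Type u} [AddCommGroup C] [Module R C] [Module.Finite R C]
    (𝒞 : ℤ → AddSubgroup C) [Decomposition 𝒞] [SetLike.GradedSMul 𝒜 𝒞] {n : ℕ} {I : StarInjRes 𝒜 𝒜}
    {β : I.H m n →+ C →+ deg0 𝒜} (hβ : IsPerfect 𝒞 (I.Hcomp m n) β) :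
    IsStarCanonical 𝒜 𝒞 𝓔 m n I := by
  classical
  obtain ⟨β₂, hβ₂⟩ := perfect_of_equiv hpos h0 hm hmsp he 𝒞 (homDeg 𝒜 𝒞 𝓔)
    (LinearEquiv.refl R (C →ₗ[R] E)) (fun d f hf => hf) fun d f hf => hf
  let : Decomposition (I.Hgr m n) := (isInternal_Hgr I m n).chooseDecomposition
  obtain ⟨ψ, hψ⟩ := hβ₂.exists_equiv (fun f => by
      obtain ⟨D, hD⟩ := GrInj18.exists_sum_degPart 𝒜 𝒞 𝓔 f
      exact ⟨D, fun d => GrInj18.degPart 𝒜 𝒞 𝓔 d f, fun d => GrInj18.isGrHomDeg_degPart 𝒜 𝒞 𝓔 d f, hD⟩)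
    hβ (fun h => by
      obtain ⟨t, ht⟩ := exists_sum_cmp (I.Hgr m n) h
      exact ⟨t, fun d => cmp (I.Hgr m n) d h, fun d => cmp_mem (I.Hgr m n) d h, ht⟩)
  exact ⟨‹_›, ψ, fun d f hf => hψ d f hf⟩

end Groth.Agent.GrMod19.Pairing
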