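import Groth.Agent.GrMod19.Gor.Top
import Groth.Agent.GrMod19.Gor.Pairing
import Groth.Agent.GrMod19.CMTop
import Groth.Agent.GrInj18.Hull
import Groth.Agent.GrInj18.Prime

/-!
Gorenstein graded rings over a field: the top local cohomology is dual to the ring shifted by the a-invariant.
-/

universe u

open DirectSum GrLC

namespace Groth.Agent.GrMod19.Gor

set_option autoImplicit false

variable {R : Type u} [CommRing R] [IsNoetherianRing R] {𝒜 : ℤ → AddSubgroup R} [GradedRing 𝒜]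

/-- the end of a perfectly paired module is read off from the lowest piece -/
theorem endDeg_of_perfect {C : Type u} [AddCommGroup C] [Module R C] {𝒞 : ℤ → AddSubgroup C}
    [SetLike.GradedSMul 𝒜 𝒞] {H : Type u} [AddCommGroup H] [Module R H]
    {ℋ : ℤ → Submodule (deg0 𝒜) H} {β : H →+ C →+ deg0 𝒜} (hβ : Pairing.IsPerfect 𝒞 ℋ β) {a : ℤ}
    (hlow : ∀ j, j < -a → 𝒞 j = ⊥) (F : GrLC.comp 𝒜 𝒞 (-a) →ₗ[deg0 𝒜] deg0 𝒜) (hF : F ≠ 0) :
    endDeg (fun d => (ℋ d).toAddSubgroup) = ((a : WithTop ℤ) : WithBot (WithTop ℤ)) := by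
  refine le_antisymm (iSup₂_le fun d hd => ?_)
    (le_iSup₂ (f := fun (d : ℤ) (_ : (ℋ d).toAddSubgroup ≠ ⊥) => ((d : WithTop ℤ) : WithBot (WithTop ℤ))) a ?_)
  · refine WithBot.coe_le_coe.2 (WithTop.coe_le_coe.2 (not_lt.1 fun h => hd ?_))
    refine (AddSubgroup.eq_bot_iff_forall _).2 fun x hx => hβ.unique d x hx fun c hc => ?_
    rw [hlow (-d) (by omega)] at hc
    simp [AddSubgroup.mem_bot.1 hc]
  · intro h
    refine hF (LinearMap.ext fun c => ?_)
    obtain ⟨x, hx, hxF⟩ := hβ.onto a F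
    rw [← hxF c, show x = 0 from (AddSubgroup.eq_bot_iff_forall _).1 h x hx]
    simp

variable [LocCoh.IsGorensteinRing R]

/-- the top cohomology of a Gorenstein ring is dual to a shift of it -/
theorem exists_perfect_gor (hpos : ∀ k : ℤ, k < 0 → 𝒜 k = ⊥) (h0 : IsField (deg0 𝒜))
    {m : HomogeneousIdeal 𝒜} (hm : IsStarLocal 𝒜 m)
    (hmsp : m.toIdeal = Ideal.span (⋃ k ∈ Set.Ioi (0 : ℤ), (𝒜 k : Set R))) {n : ℕ}
    (hn : ringKrullDim R = n) (I : StarInjRes 𝒜 𝒜) :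
    ∃ (a : ℤ) (β : I.H m n →+ (shift (GrMod19.self 𝒜) a).carrier →+ deg0 𝒜),
      Pairing.IsPerfect (shift (GrMod19.self 𝒜) a).gr (I.Hcomp m n) β ∧
        endDeg (I.Hgr m n) = ((a : WithTop ℤ) : WithBot (WithTop ℤ)) := by
  have hpn : NonnegGr 𝒜 := fun k hk x hx => AddSubgroup.mem_bot.1 (hpos k hk ▸ hx)
  have := isMaximal_star hpn hm
  obtain ⟨X, e, he⟩ := GrInj18.exists_isStarInjHull 𝒜 (GrLC.quotGr 𝒜 m)
  obtain ⟨g, φ, hφ⟩ := (exists_iso_hull hm (WithBot.coe_eq_coe.1 ((height_star_eq hpn hm).trans hn)) I).2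
    X.gr e he
  let : Decomposition (I.Hgr m n) := (isInternal_Hgr I m n).chooseDecomposition
  have hφ' : ∀ d, ∀ x ∈ X.gr (d + g), φ.symm x ∈ I.Hgr m n d := fun d x hx => by
    have h1 : cmp (I.Hgr m n) d (φ.symm x) = φ.symm x := φ.injective (by
      rw [φ.apply_symm_apply]
      refine (GrInj18.map_cmp_deg (I.Hgr m n) X.gr hφ d (φ.symm x)).trans ?_
      rw [show φ.toLinearMap (φ.symm x) = x from φ.apply_symm_apply x]
      exact GrInj18.cmp_of_mem _ hx)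
    rw [← h1]
    exact cmp_mem _ _ _
  let C := shift (GrMod19.self 𝒜) (-g)
  let ψ : (C.carrier →ₗ[R] X.carrier) ≃ₗ[R] I.H m n :=
    LinearMap.ringLmapEquivSelf R R X.carrier ≪≫ₗ φ.symm
  have h1 : (1 : R) ∈ C.gr g := by
    show (1 : R) ∈ 𝒜 (g + -g)
    rw [add_neg_cancel]
    exact SetLike.GradedOne.one_mem
  obtain ⟨β, hβ⟩ := Pairing.perfect_of_equiv hpos h0 hm hmsp he C.gr (I.Hcomp m n) ψ
    (fun d f hf => hφ' d (f (1 : R)) (add_comm d g ▸ hf g (1 : R) h1))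
    fun d h hh k r hr => by
      show r • φ h ∈ X.gr (k + d)
      have h2 := smul_mem_add 𝒜 X.gr (hr : r ∈ 𝒜 (k + -g)) (hφ d h hh)
      rwa [show k + -g + (d + g) = k + d by ring] at h2
  refine ⟨-g, β, hβ, ?_⟩
  let F : GrLC.comp 𝒜 C.gr (-(-g)) →ₗ[deg0 𝒜] deg0 𝒜 :=
    { toFun := fun c => ⟨c.1, by
        obtain ⟨x, hx⟩ := c
        have : x ∈ 𝒜 (-(-g) + -g) := hx
        rwa [neg_neg, add_neg_cancel] at this⟩
      map_add' := fun _ _ => rfl
      map_smul' := fun _ _ => rfl }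
  refine endDeg_of_perfect hβ (fun j hj => (AddSubgroup.eq_bot_iff_forall _).2 fun x hx => ?_) F ?_
  · exact hpn (j + -g) (by omega) x hx
  · intro h
    have : Nontrivial (deg0 𝒜) := ⟨h0.exists_pair_ne⟩
    exact one_ne_zero (α := deg0 𝒜) (LinearMap.congr_fun h ⟨(1 : R), by
      show (1 : R) ∈ C.gr (-(-g)); rw [neg_neg]; exact h1⟩)

end Groth.Agent.GrMod19.Gor
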