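import Groth.Agent.GrMod19.RegSeq
import Groth.Agent.GrMod19.Gor.Pairing
import Groth.Agent.GrMod19.Ver.Gor
import Groth.Agent.GrMod19.Reg
import Groth.Agent.GrMod19.Gor.GorPair
import Groth.Agent.GrInj18.Res
import Groth.Agent.S18638
import Groth.Agent.S18645
import Mathlib.LinearAlgebra.Dual.Lemmas

/-!
The canonical module of a Gorenstein ring whose irrelevant ideal is generated by a regular sequence.
-/

universe u

open DirectSum GrLC

namespace Groth.Agent.GrMod19.Gor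

set_option autoImplicit false

/-- the end of the top cohomology when a regular sequence generates the irrelevant ideal -/
theorem endDeg_of_regular {R : Type u} [CommRing R] [IsNoetherianRing R] [LocCoh.IsCohenMacaulayRing R]
    {𝒜 : ℤ → AddSubgroup R} [GradedRing 𝒜] (hpos : ∀ k : ℤ, k < 0 → 𝒜 k = ⊥)
    (h0 : IsField (deg0 𝒜)) {m : HomogeneousIdeal 𝒜} (hm : IsStarLocal 𝒜 m)
    (hmsp : m.toIdeal = Ideal.span (⋃ k ∈ Set.Ioi (0 : ℤ), (𝒜 k : Set R))) {n : ℕ}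
    (hn : ringKrullDim R = n) (I : StarInjRes 𝒜 𝒜) (f : Fin n → R) (deg : Fin n → ℤ)
    (hf : ∀ i, f i ∈ 𝒜 (deg i)) (hfspan : Ideal.span (Set.range f) = m.toIdeal)
    (hreg : RingTheory.Sequence.IsWeaklyRegular R (List.ofFn f)) :
    endDeg (I.Hgr m n) =
      (((-(Finset.univ : Finset (Fin n)).sum deg : ℤ) : WithTop ℤ) : WithBot (WithTop ℤ)) := by
  classical
  have hpn : NonnegGr 𝒜 := fun k hk x hx => AddSubgroup.mem_bot.1 (hpos k hk ▸ hx)
  have hmax := isMaximal_star hpn hm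
  have hmne : m.toIdeal ≠ ⊤ := hmax.ne_top
  have hfm : ∀ i, f i ∈ m.toIdeal := fun i => hfspan ▸ Ideal.subset_span (Set.mem_range_self i)
  have hr : RingTheory.Sequence.IsRegular R (List.ofFn f) := by
    refine ⟨hreg, fun h => hmne ?_⟩
    rw [← hfspan, ← show Ideal.ofList (List.ofFn f) = Ideal.span (Set.range f) by
      rw [Ideal.ofList]; congr 1; ext y; simp [eq_comm]]
    rw [Ideal.smul_eq_mul, Ideal.mul_top] at h
    exact h.symm
  have hP : Submodule.IsHomogeneous (m.toIdeal : Submodule R R) 𝒜 := m.isHomogeneous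
  let : Decomposition (GrInj18.quotPieces 𝒜 (m.toIdeal : Submodule R R)) :=
    (GrInj18.quotPieces_isInternal 𝒜 hP).chooseDecomposition
  obtain ⟨F⟩ := GrInj18.nonempty_starInjRes 𝒜 (GrInj18.quotPieces 𝒜 (m.toIdeal : Submodule R R))
  have hE := S18645.result R 𝒜 hpos h0 m hm hmsp n hn I n le_rfl f deg hf hfm hr _
    (GrInj18.quotPieces 𝒜 (m.toIdeal : Submodule R R)) (Submodule.mkQ (m.toIdeal : Submodule R R))
    (fun d r hr => ⟨r, hr, rfl⟩) (Submodule.mkQ_surjective _) ((Submodule.ker_mkQ _).trans hfspan.symm) F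
  rw [Nat.sub_self] at hE
  have hquot : ∀ d ≠ 0, ∀ z ∈ GrInj18.quotPieces 𝒜 (m.toIdeal : Submodule R R) d, z = 0 := by
    rintro d hd _ ⟨r, hr, rfl⟩
    refine (Submodule.Quotient.mk_eq_zero _).2 ?_
    rcases lt_or_gt_of_ne hd with h | h
    · rw [hpn d h r hr]
      exact zero_mem _
    · exact mem_plus_of_mem hmsp h hr
  have hend : endDeg (F.Hgr m 0) = (((0 : ℤ) : WithTop ℤ) : WithBot (WithTop ℤ)) := by
    refine le_antisymm ((endDeg_le_iff _ _).2 fun d hd => ?_) ?_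
    · exact (AddSubgroup.eq_bot_iff_forall _).2 fun y hy => (Submodule.eq_bot_iff _).1
        (vanH_zero_of_forall m (fun z _ hz => hquot d hd.ne' z hz) F) y hy
    · refine le_iSup₂ (f := fun (d : ℤ) (_ : F.Hgr m 0 d ≠ ⊥) => ((d : WithTop ℤ) : WithBot (WithTop ℤ))) 0 ?_
      intro h
      have hv : VanH m (GrInj18.quotPieces 𝒜 (m.toIdeal : Submodule R R)) 0 (0 : ℤ) :=
        (vanH_iff m F).2 ((Submodule.eq_bot_iff _).2 fun y hy => (AddSubgroup.eq_bot_iff_forall _).1 h y hy)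
      have h1 : Submodule.mkQ (m.toIdeal : Submodule R R) 1 = 0 := by
        refine eq_zero_of_vanH_zero m hv ⟨1, fun r hr => ?_⟩ ⟨1, SetLike.GradedOne.one_mem (A := 𝒜), rfl⟩
        rw [← map_smul, smul_eq_mul, mul_one]
        exact (Submodule.Quotient.mk_eq_zero _).2 (by rwa [pow_one] at hr)
      exact hmne ((Ideal.eq_top_iff_one _).2 ((Submodule.Quotient.mk_eq_zero _).1 h1))
  rw [hend] at hE
  revert hE
  induction endDeg (I.Hgr m n) using WithBot.recBotCoe with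
  | bot => intro hE; rw [WithBot.bot_add] at hE; exact absurd hE WithBot.coe_ne_bot
  | coe x =>
    induction x using WithTop.recTopCoe with
    | top => intro hE; rw [← WithBot.coe_add, top_add] at hE; exact absurd (WithBot.coe_inj.1 hE) WithTop.coe_ne_top
    | coe x =>
      intro hE
      rw [← WithBot.coe_add, ← WithTop.coe_add, WithBot.coe_inj, WithTop.coe_inj] at hE
      rw [WithBot.coe_inj, WithTop.coe_inj]
      omega

/-- the canonical module of such a ring is the ring shifted by the sum of the degrees -/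
theorem exists_shift_equiv_of_regular {R : Type u} [CommRing R] [IsNoetherianRing R]
    [LocCoh.IsGorensteinRing R] {𝒜 : ℤ → AddSubgroup R} [GradedRing 𝒜] (hpos : ∀ k : ℤ, k < 0 → 𝒜 k = ⊥)
    (h0 : IsField (deg0 𝒜)) {m : HomogeneousIdeal 𝒜} (hm : IsStarLocal 𝒜 m)
    (hmsp : m.toIdeal = Ideal.span (⋃ k ∈ Set.Ioi (0 : ℤ), (𝒜 k : Set R))) {n : ℕ}
    (hn : ringKrullDim R = n) (I : StarInjRes 𝒜 𝒜) (f : Fin n → R) (deg : Fin n → ℤ)
    (hf : ∀ i, f i ∈ 𝒜 (deg i)) (hfspan : Ideal.span (Set.range f) = m.toIdeal)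
    (hreg : RingTheory.Sequence.IsWeaklyRegular R (List.ofFn f))
    {E' : Type u} [AddCommGroup E'] [Module R E'] {𝓔 : ℤ → AddSubgroup E'} [Decomposition 𝓔]
    [SetLike.GradedSMul 𝒜 𝓔] {e : (R ⧸ m.toIdeal) →ₗ[R] E'} (he : IsStarInjHull 𝒜 (quotGr 𝒜 m) 𝓔 e)
    {C : Type u} [AddCommGroup C] [Module R C] {𝒞 : ℤ → AddSubgroup C} [Decomposition 𝒞]
    [SetLike.GradedSMul 𝒜 𝒞] (hC : IsStarCanonical 𝒜 𝒞 𝓔 m n I) :
    ∃ g : R →ₗ[R] C, Function.Bijective g ∧ IsGrHomDeg 𝒜 𝒞 g ((Finset.univ : Finset (Fin n)).sum deg) := by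
  classical
  have hpn : NonnegGr 𝒜 := fun k hk x hx => AddSubgroup.mem_bot.1 (hpos k hk ▸ hx)
  have := cm_of_gorenstein R
  have hmax := isMaximal_star hpn hm
  have hmne : m.toIdeal ≠ ⊤ := hmax.ne_top
  have hfm : ∀ i, f i ∈ m.toIdeal := fun i => hfspan ▸ Ideal.subset_span (Set.mem_range_self i)
  have hE := endDeg_of_regular hpos h0 hm hmsp hn I f deg hf hfspan hreg
  obtain ⟨d₀, g, hgb, hg⟩ := (S18638.result R 𝒜 hpos h0 m hm hmsp n hn I E' 𝓔 e he C 𝒞 hC).1 ‹_›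
  have hne : Nontrivial R := ⟨⟨0, 1, fun h => hmne ((Ideal.eq_top_iff_one _).2 (h ▸ m.toIdeal.zero_mem))⟩⟩
  obtain ⟨β, hβ⟩ := Pairing.exists_perfect hpos h0 hm hmsp he 𝒞 hC
  have hg1 : g 1 ∈ 𝒞 (0 + d₀) := hg 0 1 SetLike.GradedOne.one_mem
  rw [zero_add] at hg1
  have hlow : ∀ j < d₀, ∀ c ∈ 𝒞 j, c = 0 := fun j hj c hc => by
    obtain ⟨r, rfl⟩ := hgb.2 c
    have h1 : cmp 𝒞 j (g r) = g r := cmp_of_mem 𝒞 hc
    rw [show g r = r • g 1 by rw [← map_smul, smul_eq_mul, mul_one], cmp_smul_homog_right 𝒜 𝒞 j hg1,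
      hpn (j - d₀) (by omega) _ (cmp_mem 𝒜 _ r), zero_smul] at h1
    rw [show g r = r • g 1 by rw [← map_smul, smul_eq_mul, mul_one], h1]
  let : Field (deg0 𝒜) := h0.toField
  let k' := GrLC.comp 𝒜 𝒞 (-(-d₀))
  have hc' : g 1 ∈ 𝒞 (-(-d₀)) := by rwa [neg_neg]
  have hne1 : (⟨g 1, hc'⟩ : k') ≠ 0 := fun h => one_ne_zero (α := R)
    (hgb.1 ((congrArg Subtype.val h).trans (map_zero g).symm))
  obtain ⟨F', hF'⟩ : ∃ F' : k' →ₗ[deg0 𝒜] deg0 𝒜, F' ⟨g 1, hc'⟩ ≠ 0 :=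
    not_forall.1 fun hall => hne1 ((Module.forall_dual_apply_eq_zero_iff _ _).1 hall)
  have ha := endDeg_of_perfect hβ (a := -d₀)
    (fun j hj => (AddSubgroup.eq_bot_iff_forall _).2 (hlow j (by omega))) F' fun h => hF' (by rw [h]; rfl)
  rw [show endDeg (I.Hgr m n) = _ from ha, WithBot.coe_inj, WithTop.coe_inj] at hE
  refine ⟨g, hgb, ?_⟩
  rwa [show (Finset.univ : Finset (Fin n)).sum deg = d₀ by omega]

end Groth.Agent.GrMod19.Gor
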