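import Groth.Agent.GrMod19.Positive
import Mathlib.LinearAlgebra.TensorProduct.Quotient
import Mathlib.LinearAlgebra.Dimension.Finrank

/-!
Standard graded rings; minimal generators of a module generated in one degree.
-/

universe u

open DirectSum GrLC
open scoped TensorProduct

namespace Groth.Agent.GrMod19

set_option autoImplicit false

variable {R : Type u} [CommRing R] {𝒜 : ℤ → AddSubgroup R} [GradedRing 𝒜]

/-- a standard graded ring: products fill up every degree -/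
theorem mem_closure_mul
    (hstd : Ideal.span (⋃ n ∈ Set.Ioi (0 : ℤ), (𝒜 n : Set R)) = Ideal.span ((𝒜 1 : AddSubgroup R) : Set R))
    (t : ℕ) : ∀ n : ℤ, 0 ≤ n → ∀ x ∈ 𝒜 ((t : ℤ) + n),
      x ∈ AddSubgroup.closure {z | ∃ u ∈ 𝒜 (t : ℤ), ∃ v ∈ 𝒜 n, u * v = z} := by
  have hstep : ∀ n : ℤ, 0 ≤ n → ∀ x ∈ 𝒜 (n + 1),
      x ∈ AddSubgroup.closure {z | ∃ u ∈ 𝒜 1, ∃ v ∈ 𝒜 n, u * v = z} := by
    intro n hn x hx
    have hx' : x ∈ Ideal.span (⋃ j ∈ Set.Ioi (0 : ℤ), (𝒜 j : Set R)) :=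
      Ideal.subset_span (Set.mem_biUnion (Set.mem_Ioi.2 (by omega : (0 : ℤ) < n + 1)) hx)
    rw [hstd, show Ideal.span ((𝒜 1 : AddSubgroup R) : Set R) =
      Submodule.span R ((𝒜 1 : AddSubgroup R) : Set R) from rfl, Submodule.mem_span_set'] at hx'
    obtain ⟨l, c, y, hy⟩ := hx'
    rw [← cmp_of_mem 𝒜 hx, ← hy, map_sum]
    refine sum_mem fun b _ => ?_
    rw [cmp_smul_homog_right 𝒜 𝒜 (n + 1) (y b).2 (c b), add_sub_cancel_right, smul_eq_mul, mul_comm]
    exact AddSubgroup.subset_closure ⟨_, (y b).2, _, cmp_mem 𝒜 n (c b), rfl⟩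
  induction t with
  | zero =>
    intro n _ x hx
    rw [Nat.cast_zero, zero_add] at hx
    rw [Nat.cast_zero]
    exact AddSubgroup.subset_closure ⟨1, SetLike.GradedOne.one_mem, x, hx, one_mul x⟩
  | succ t ih =>
    intro n hn x hx
    have hle := hstep ((t : ℤ) + n) (by omega) x
      (by rwa [show ((t + 1 : ℕ) : ℤ) + n = (t : ℤ) + n + 1 by push_cast; ring] at hx)
    refine (AddSubgroup.closure_le _).2 ?_ hle
    rintro _ ⟨a₁, ha₁, w, hw, rfl⟩
    have hw' := ih n hn w hw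
    clear hw
    induction hw' using AddSubgroup.closure_induction with
    | mem z hz =>
      obtain ⟨u, hu, v, hv, rfl⟩ := hz
      refine AddSubgroup.subset_closure ⟨a₁ * u, ?_, v, hv, mul_assoc _ _ _⟩
      rw [show ((t + 1 : ℕ) : ℤ) = 1 + (t : ℤ) by push_cast; ring]
      exact SetLike.GradedMul.mul_mem ha₁ hu
    | zero => simp
    | add z z' _ _ h h' => rw [mul_add]; exact add_mem h h'
    | neg z _ h => rw [mul_neg]; exact neg_mem h

variable {C : Type u} [AddCommGroup C] [Module R C] (𝒞 : ℤ → AddSubgroup C) [Decomposition 𝒞]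
  [SetLike.GradedSMul 𝒜 𝒞]

/-- for a module generated in its lowest degree, that piece counts the generators -/
theorem finrank_residue_tensor (hpos : NonnegGr 𝒜) (h0 : IsField (deg0 𝒜)) [IsNoetherianRing R]
    {m : HomogeneousIdeal 𝒜} (hma : IsPlus m) {j₀ : ℤ} (hlow : ∀ j, j < j₀ → 𝒞 j = ⊥)
    (hgen : Submodule.span R (𝒞 j₀ : Set C) = ⊤) :
    Module.finrank (deg0 𝒜) (GrLC.comp 𝒜 𝒞 j₀) =
      Module.finrank (R ⧸ m.toIdeal) ((R ⧸ m.toIdeal) ⊗[R] C) := by
  let M0 : Submodule R C := m.toIdeal • ⊤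
  have hM0 : ∀ z ∈ M0, cmp 𝒞 j₀ z = 0 := fun z hz => by
    refine Submodule.smul_induction_on hz (fun a ha c _ => ?_) fun p p' hp hp' => by
      rw [map_add, hp, hp', add_zero]
    · induction c using piece_induction 𝒞 with
      | h0 => simp
      | hadd p p' hp hp' => simp [smul_add, hp, hp']
      | hp k c hc =>
        rw [cmp_smul_homog_right 𝒜 𝒞 j₀ hc]
        rcases lt_or_ge k j₀ with hk | hk
        · rw [hlow k hk] at hc
          simp [AddSubgroup.mem_bot.1 hc]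
        · rcases eq_or_lt_of_le hk with rfl | hk
          · rw [sub_self, (mem_plus_iff hpos hma a).1 ha, zero_smul]
          · rw [hpos (j₀ - k) (by omega) _ (cmp_mem 𝒜 _ a), zero_smul]
  let e := (TensorProduct.quotTensorEquivQuotSMul C m.toIdeal).symm
  let ι₀ : GrLC.comp 𝒜 𝒞 j₀ →+ (R ⧸ m.toIdeal) ⊗[R] C :=
    AddMonoidHom.mk' (fun c => e (Submodule.Quotient.mk c.1)) fun c c' => by
      rw [← map_add, ← Submodule.Quotient.mk_add]
      rfl
  let i : deg0 𝒜 → R ⧸ m.toIdeal := fun a => Ideal.Quotient.mk m.toIdeal (a : R)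
  have hi : Function.Bijective i := by
    refine ⟨fun a b h => Subtype.ext (sub_eq_zero.1 ?_), fun t => ?_⟩
    · have h1 := (mem_plus_iff hpos hma _).1 (Ideal.Quotient.eq.1 h)
      rwa [map_sub, cmp_of_mem 𝒜 a.2, cmp_of_mem 𝒜 b.2] at h1
    · obtain ⟨r, rfl⟩ := Ideal.Quotient.mk_surjective t
      refine ⟨⟨cmp 𝒜 0 r, cmp_mem 𝒜 0 r⟩, Ideal.Quotient.eq.2 ((mem_plus_iff hpos hma _).2 ?_)⟩
      rw [map_sub, cmp_of_mem 𝒜 (cmp_mem 𝒜 0 r), sub_self]
  have hinj : Function.Injective ι₀ := (injective_iff_map_eq_zero ι₀).2 fun c hc => by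
    have h := hM0 c.1 ((Submodule.Quotient.mk_eq_zero M0).1 (e.injective (hc.trans (map_zero e).symm)))
    rw [cmp_of_mem 𝒞 c.2] at h
    exact Subtype.ext h
  have hsurj : Function.Surjective ι₀ := fun t => by
    obtain ⟨z, rfl⟩ := e.surjective t
    obtain ⟨c, rfl⟩ := Submodule.Quotient.mk_surjective _ z
    have hc : c ∈ Submodule.span R (𝒞 j₀ : Set C) := by rw [hgen]; trivial
    induction hc using Submodule.span_induction with
    | mem x hx => exact ⟨⟨x, hx⟩, rfl⟩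
    | zero => exact ⟨0, by rw [map_zero, Submodule.Quotient.mk_zero, map_zero]⟩
    | add p p' _ _ hp hp' =>
      obtain ⟨a, ha⟩ := hp
      obtain ⟨b, hb⟩ := hp'
      exact ⟨a + b, by rw [map_add, ha, hb, Submodule.Quotient.mk_add, map_add]⟩
    | smul r p _ hp =>
      obtain ⟨a, ha⟩ := hp
      refine ⟨(⟨cmp 𝒜 0 r, cmp_mem 𝒜 0 r⟩ : deg0 𝒜) • a, ?_⟩
      show e (Submodule.Quotient.mk (cmp 𝒜 0 r • a.1)) = e (Submodule.Quotient.mk (r • p))
      have h2 : e (Submodule.Quotient.mk a.1) = e (Submodule.Quotient.mk p) := ha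
      refine congrArg e ?_
      rw [Submodule.Quotient.mk_smul, e.injective h2, ← Submodule.Quotient.mk_smul, Submodule.Quotient.eq,
        ← sub_smul]
      refine Submodule.smul_mem_smul ((mem_plus_iff hpos hma _).2 ?_) trivial
      rw [map_sub, cmp_of_mem 𝒜 (cmp_mem 𝒜 0 r), sub_self]
  refine congrArg Cardinal.toNat (rank_eq_of_equiv_equiv i (AddEquiv.ofBijective ι₀ ⟨hinj, hsurj⟩) hi
    fun a c => ?_)
  show e (Submodule.Quotient.mk ((a : R) • c.1)) = i a • e (Submodule.Quotient.mk c.1)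
  rw [Submodule.Quotient.mk_smul, map_smul]
  exact (algebraMap_smul (R ⧸ m.toIdeal) (a : R) _).symm

end Groth.Agent.GrMod19
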