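import Groth.Agent.GrMod19.Gor.Local

/-!
The *injective envelope of the residue ring localises to the injective hull of the residue field;
graded local cohomology localises to local cohomology.
-/

universe u

open DirectSum CategoryTheory GrLC
open scoped TensorProduct
open Groth.Agent.LC16

namespace Groth.Agent.GrMod19.Gor

set_option autoImplicit false

variable {R : Type u} [CommRing R] [IsNoetherianRing R] {ι : Type} [AddCommGroup ι] [DecidableEq ι]
  [Module.Free ℤ ι] [Module.Finite ℤ ι] {𝒜 : ι → AddSubgroup R} [GradedRing 𝒜]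
  {m : HomogeneousIdeal 𝒜} [hmp : m.toIdeal.IsPrime]

/-- a *injective whose associated primes are `m` is injective at `m` -/
theorem injective_loc_of_ass {X : Type u} [AddCommGroup X] [Module R X] (𝒳 : ι → AddSubgroup X)
    [Decomposition 𝒳] [SetLike.GradedSMul 𝒜 𝒳] (hX : IsStarInj 𝒜 𝒳)
    (hass : ∀ q ∈ associatedPrimes R X, q = m.toIdeal) :
    Module.Injective (Localization.AtPrime m.toIdeal) (LocalizedModule m.toIdeal.primeCompl X) := by
  refine (Module.injective_iff_injective_object _ _).2 (injective_iff_hasInjectiveDimensionLT_one.2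
    (EGA4Alg4.hasInjectiveDimensionLT_of_ext_cyclic 0 _ fun J =>
      subsingleton_ext_loc m.toIdeal 1 (fun Q _ hQm => ?_) J))
  by_cases hQ : Q.IsHomogeneous 𝒜
  · exact Bass.bass_succ_eq_zero 𝒜 𝒳 hX Q hQ 0
  have hC := GrRing54.isPrime_homogeneousCore (𝒜 := 𝒜) Q
  obtain ⟨d, hd⟩ : ∃ d : ℕ, (Q.map (Ideal.Quotient.mk (Q.homogeneousCore 𝒜).toIdeal)).height = d := by
    have : (Q.map (Ideal.Quotient.mk (Q.homogeneousCore 𝒜).toIdeal)).IsPrime :=
      Ideal.map_isPrime_of_surjective Ideal.Quotient.mk_surjective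
        (by rw [Ideal.mk_ker]; exact Ideal.toIdeal_homogeneousCore_le 𝒜 Q)
    exact (ENat.ne_top_iff_exists.1 (Ideal.height_ne_top_of_isPrime
      (I := Q.map (Ideal.Quotient.mk (Q.homogeneousCore 𝒜).toIdeal)))).imp fun _ h => h.symm
  obtain ⟨h1, h2⟩ := Bass.bass_core 𝒜 𝒳 (M := X) Q d hd
  rcases Nat.lt_or_ge 1 d with hd1 | hd1
  · exact h1 1 hd1
  rcases Nat.eq_zero_or_pos d with rfl | hd0
  · refine absurd ?_ hQ
    have h3 := h2 0
    have hle : Q ≤ (Q.homogeneousCore 𝒜).toIdeal := by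
      by_contra hne
      have hbot : (⊥ : Ideal (R ⧸ (Q.homogeneousCore 𝒜).toIdeal)) <
          Q.map (Ideal.Quotient.mk (Q.homogeneousCore 𝒜).toIdeal) :=
        bot_lt_iff_ne_bot.2 fun h => hne (by
          rw [Ideal.map_eq_bot_iff_le_ker, Ideal.mk_ker] at h
          exact h)
      have : (Q.map (Ideal.Quotient.mk (Q.homogeneousCore 𝒜).toIdeal)).IsPrime :=
        Ideal.map_isPrime_of_surjective Ideal.Quotient.mk_surjective
          (by rw [Ideal.mk_ker]; exact Ideal.toIdeal_homogeneousCore_le 𝒜 Q)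
      have hpos := Ideal.height_add_one_le_of_lt_of_isPrime hbot
      rw [hd, Nat.cast_zero] at hpos
      simp at hpos
    rw [le_antisymm hle (Ideal.toIdeal_homogeneousCore_le 𝒜 Q)]
    exact (Q.homogeneousCore 𝒜).isHomogeneous
  · obtain rfl : d = 1 := by omega
    rw [show (1 : ℕ) = 0 + 1 from rfl, h2 0]
    by_contra hne
    have hQ' := hass _ ((Bass.bassNum_zero_ne_zero_iff _).1 hne)
    refine hQ ?_
    rw [le_antisymm hQm (hQ' ▸ Ideal.toIdeal_homogeneousCore_le 𝒜 Q)]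
    exact m.isHomogeneous

variable {E : Type u} [AddCommGroup E] [Module R E] (𝓔 : ι → AddSubgroup E) [Decomposition 𝓔]
  [SetLike.GradedSMul 𝒜 𝓔] {e : (R ⧸ m.toIdeal) →ₗ[R] E}

/-- the associated primes of the envelope -/
theorem ass_hull (he : IsStarEss (quotGr 𝒜 m) 𝓔 e) {q : Ideal R} (hq : q ∈ associatedPrimes R E) :
    q = m.toIdeal := by
  obtain ⟨hqp, x, hx⟩ := isAssociatedPrime_iff.1 hq
  have hkill : ∀ r : R, r ∈ q ↔ r • x = 0 := fun r => by
    rw [hx, Submodule.mem_colon_singleton, Submodule.mem_bot]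
  have hx0 : x ≠ 0 := fun h => hqp.ne_top ((Ideal.eq_top_iff_one _).2 ((hkill 1).2 (by rw [h, smul_zero])))
  obtain ⟨n, hn⟩ : x ∈ GrLC.gam m.toIdeal E := by
    rw [GrInj18.gam_eq_top_of_hull_prime 𝒜 𝓔 m he]; trivial
  exact le_antisymm
    (fun r hr => (GrInj18.mem_prime_iff_of_hull_prime 𝒜 𝓔 m he r).2 ⟨x, hx0, (hkill r).1 hr⟩)
    fun r hr => hqp.mem_of_pow_mem n ((hkill _).2 (hn _ (Ideal.pow_mem_pow hr n)))

/-- the envelope localises to an injective hull of the residue field -/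
theorem exists_hull_localized (he : IsStarInjHull 𝒜 (quotGr 𝒜 m) 𝓔 e) :
    ∃ f : IsLocalRing.ResidueField (Localization.AtPrime m.toIdeal) →ₗ[Localization.AtPrime m.toIdeal]
      LocalizedModule m.toIdeal.primeCompl E, InjHull.IsInjectiveHull f := by
  obtain ⟨ρ⟩ := Bass.nonempty_quot_equiv m.toIdeal m.toIdeal le_rfl
  let ρ' : LocalizedModule m.toIdeal.primeCompl (R ⧸ m.toIdeal) ≃ₗ[Localization.AtPrime m.toIdeal]
      IsLocalRing.ResidueField (Localization.AtPrime m.toIdeal) := ρ ≪≫ₗ Submodule.quotEquivOfEq _ _ (Localization.AtPrime.map_eq_maximalIdeal (I := m.toIdeal))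
  let L := LocalizedModule.map m.toIdeal.primeCompl e
  refine ⟨L ∘ₗ ρ'.symm.toLinearMap,
    ⟨⟨(LocalizedModule.map_injective _ e he.injective).comp ρ'.symm.injective, fun N hN => ?_⟩,
      injective_loc_of_ass 𝓔 he.starInj fun q hq => ass_hull 𝓔 he.toIsStarEss hq⟩⟩
  obtain ⟨y, ⟨hyN, hy⟩, hy0⟩ := (Submodule.ne_bot_iff _).1
    (InjHull18.localized_essential m.toIdeal.primeCompl (LinearMap.range e)
      (GrInj18.essential_of_hull_prime 𝒜 𝓔 m he.toIsStarEss).essential N hN)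
  obtain ⟨w, ⟨r, rfl⟩, s, rfl⟩ := (Submodule.mem_localized' (Localization m.toIdeal.primeCompl)
    m.toIdeal.primeCompl (LocalizedModule.mkLinearMap m.toIdeal.primeCompl E) _ _).1 hy
  refine (Submodule.ne_bot_iff _).2 ⟨_, ⟨hyN, ?_⟩, hy0⟩
  refine ⟨ρ' (LocalizedModule.mk r s), ?_⟩
  rw [LinearMap.comp_apply, LinearEquiv.coe_coe, LinearEquiv.symm_apply_apply,
    ← IsLocalizedModule.mk_eq_mk']
  exact LocalizedModule.map_mk _ e r s

omit [Module.Free ℤ ι] [Module.Finite ℤ ι] in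
/-- the graded top cohomology localises to local cohomology of the local ring -/
theorem nonempty_H_localized (I : StarInjRes 𝒜 𝒜) (i : ℕ) :
    Nonempty (LocalizedModule m.toIdeal.primeCompl (I.H m i) ≃ₗ[Localization.AtPrime m.toIdeal]
      LocCoh.H (IsLocalRing.maximalIdeal (Localization.AtPrime m.toIdeal)) i
        (Localization.AtPrime m.toIdeal)) := by
  let Rm := Localization.AtPrime m.toIdeal
  obtain ⟨e1⟩ := nonempty_H_equiv I m i
  obtain ⟨e2⟩ := FlatBC.exists_equiv Rm m.toIdeal i R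
  refine ⟨?_⟩
  rw [← Localization.AtPrime.map_eq_maximalIdeal]
  exact LinearEquiv.extendScalarsOfIsLocalization m.toIdeal.primeCompl Rm
      (IsLocalizedModule.iso m.toIdeal.primeCompl
        (LocalizedModule.mkLinearMap m.toIdeal.primeCompl (LocCoh.H m.toIdeal i R) ∘ₗ e1.toLinearMap)) ≪≫ₗ
    LocalizedModule.equivTensorProduct m.toIdeal.primeCompl _ ≪≫ₗ e2 ≪≫ₗ
    LC15.Hequiv _ _ (TensorProduct.AlgebraTensorModule.rid R Rm Rm)

end Groth.Agent.GrMod19.Gor
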