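import Groth.Agent.GrMod19.Gor.Canon
import Groth.Agent.LC16.CanonSeq
import Groth.Agent.Gor18.Dim

/-!
Graded modules isomorphic at the maximal homogeneous ideal are isomorphic up to a shift.
-/

universe u

open DirectSum CategoryTheory GrLC
open Groth.Agent.LC16

namespace Groth.Agent.GrMod19.Gor

set_option autoImplicit false

variable {R : Type u} [CommRing R] [IsNoetherianRing R] {ι : Type} [AddCommGroup ι] [DecidableEq ι]
  {𝒜 : ι → AddSubgroup R} [GradedRing 𝒜] {m : HomogeneousIdeal 𝒜} [hmp : m.toIdeal.IsPrime]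
  {C D : Type u} [AddCommGroup C] [Module R C] [AddCommGroup D] [Module R D]
  (𝒞 : ι → AddSubgroup C) [Decomposition 𝒞] [SetLike.GradedSMul 𝒜 𝒞]
  (𝒟 : ι → AddSubgroup D) [Decomposition 𝒟] [SetLike.GradedSMul 𝒜 𝒟]

/-- a homogeneous map which is bijective at `m` is bijective -/
theorem bijective_of_loc (hm : IsStarLocal 𝒜 m) {f : C →ₗ[R] D} {g : ι} (hf : IsGrHomDeg 𝒞 𝒟 f g)
    (hinj : ∀ x, f x = 0 → ∃ v ∉ m.toIdeal, v • x = 0)
    (hsurj : ∀ y, ∃ v ∉ m.toIdeal, v • y ∈ LinearMap.range f) : Function.Bijective f := by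
  refine ⟨(injective_iff_map_eq_zero f).2 fun x hx => GrInj18.eq_zero_of_cmp 𝒞 fun d => ?_, fun y => ?_⟩
  · obtain ⟨v, hv, hvx⟩ := hinj (GrInj18.cmp 𝒞 d x) (by
      rw [GrInj18.map_cmp_deg 𝒞 𝒟 hf, hx, map_zero])
    exact eq_zero_of_killed 𝒞 hm hv (GrInj18.cmp_mem 𝒞 d x) hvx
  · suffices h : ∀ d, GrInj18.cmp 𝒟 d y ∈ LinearMap.range f by
      obtain ⟨t, ht⟩ := GrInj18.exists_sum_cmp 𝒟 y
      exact LinearMap.mem_range.1 (ht ▸ sum_mem fun d _ => h d)
    intro d
    obtain ⟨v, hv, hvy⟩ := hsurj (GrInj18.cmp 𝒟 d y)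
    obtain ⟨e, he⟩ : ∃ e, GrInj18.cmp 𝒜 e v ∉ m.toIdeal := by
      by_contra! h
      obtain ⟨t, ht⟩ := GrInj18.exists_sum_cmp 𝒜 v
      exact hv (ht ▸ sum_mem fun e _ => h e)
    obtain ⟨x, hx⟩ := hvy
    have h := congrArg (GrInj18.cmp 𝒟 (e + d)) hx
    rw [GrInj18.cmp_smul_homog_right 𝒜 𝒟 (e + d) (GrInj18.cmp_mem 𝒟 d y), add_sub_cancel_right,
      show e + d = (e + d - g) + g by abel, ← GrInj18.map_cmp_deg 𝒞 𝒟 hf] at h
    obtain ⟨u, hu⟩ := isUnit_of_notMem hm (GrInj18.cmp_mem 𝒜 e v) he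
    exact ⟨(↑u⁻¹ : R) • GrInj18.cmp 𝒞 (e + d - g) x, by
      rw [map_smul, h, ← hu, smul_smul, Units.inv_mul, one_smul]⟩

/-- isomorphic at `m` with only scalar endomorphisms there means isomorphic up to shift -/
theorem exists_homog_iso (hm : IsStarLocal 𝒜 m) [Module.Finite R C] [Nontrivial C]
    (ψ : LocalizedModule m.toIdeal.primeCompl C ≃ₗ[Localization.AtPrime m.toIdeal]
      LocalizedModule m.toIdeal.primeCompl D)
    (hend : ∀ φ : LocalizedModule m.toIdeal.primeCompl C →ₗ[Localization.AtPrime m.toIdeal]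
      LocalizedModule m.toIdeal.primeCompl C, ∃ r : Localization.AtPrime m.toIdeal, φ = r • LinearMap.id) :
    ∃ (g : ι) (f : C →ₗ[R] D), Function.Bijective f ∧ IsGrHomDeg 𝒞 𝒟 f g := by
  classical
  let S := m.toIdeal.primeCompl
  let Rm := Localization.AtPrime m.toIdeal
  have := Module.finitePresentation_of_finite R C
  obtain ⟨⟨h, s⟩, hs⟩ := IsLocalizedModule.surj S (LocalizedModule.mkLinearMap S (C →ₗ[R] D))
    ((ExtLocal.homEquiv S D C).symm ψ.toLinearMap)
  obtain ⟨G, hG⟩ := GrInj18.exists_sum_degPart 𝒜 𝒞 𝒟 h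
  let L : ι → (LocalizedModule S C →ₗ[Rm] LocalizedModule S D) := fun d =>
    ExtLocal.homEquiv S D C (LocalizedModule.mkLinearMap S _ (GrInj18.degPart 𝒜 𝒞 𝒟 d h))
  choose r hr using fun d => hend (ψ.symm.toLinearMap ∘ₗ L d)
  have hsum : algebraMap R Rm s • LinearMap.id = ∑ d ∈ G, ψ.symm.toLinearMap ∘ₗ L d := by
    have h1 := congrArg (ExtLocal.homEquiv S D C) hs
    dsimp only at h1
    rw [Submonoid.smul_def, ← algebraMap_smul Rm (s : R), map_smul, LinearEquiv.apply_symm_apply, ← hG,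
      map_sum, map_sum] at h1
    refine LinearMap.ext fun x => ψ.injective ?_
    rw [LinearMap.smul_apply, LinearMap.id_apply, map_smul, LinearMap.sum_apply, map_sum]
    refine (LinearMap.congr_fun h1 x).trans ?_
    rw [LinearMap.sum_apply]
    exact Finset.sum_congr rfl fun d _ => (ψ.apply_symm_apply _).symm
  obtain ⟨d, -, hd⟩ : ∃ d ∈ G, IsUnit (r d) := by
    by_contra! hno
    have hmem : ∑ d ∈ G, r d ∈ IsLocalRing.maximalIdeal Rm := sum_mem fun d hd => hno d hd
    have hu : IsUnit (algebraMap R Rm s - ∑ d ∈ G, r d) := by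
      by_contra hnu
      have := add_mem (show _ ∈ IsLocalRing.maximalIdeal Rm from hnu) hmem
      rw [sub_add_cancel] at this
      exact this (IsLocalization.map_units Rm s)
    have hC : ∀ x : LocalizedModule S C, x = 0 := fun x => hu.smul_eq_zero.1 (by
      have h2 := LinearMap.congr_fun hsum x
      simp only [hr, LinearMap.smul_apply, LinearMap.id_apply, LinearMap.sum_apply] at h2
      rw [sub_smul, Finset.sum_smul, h2, sub_self])
    have : Subsingleton C := subsingleton_of_loc 𝒞 hm fun x => by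
      obtain ⟨v, hv, hvx⟩ := LocalizedModule.mem_ker_mkLinearMap_iff.1
        (LinearMap.mem_ker.2 (hC (LocalizedModule.mkLinearMap S C x)))
      exact ⟨v, hv, hvx⟩
    exact not_subsingleton C this
  let f := GrInj18.degPart 𝒜 𝒞 𝒟 d h
  have hLd : ∀ x, L d x = r d • ψ x := fun x => by
    rw [← map_smul]
    exact (ψ.apply_symm_apply (L d x)).symm.trans
      (congrArg ψ (LinearMap.congr_fun (hr d) x))
  refine ⟨d, f, bijective_of_loc 𝒞 𝒟 hm (GrInj18.isGrHomDeg_degPart 𝒜 𝒞 𝒟 d h) (fun x hx => ?_)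
    (fun y => ?_), GrInj18.isGrHomDeg_degPart 𝒜 𝒞 𝒟 d h⟩
  · have h0 : LocalizedModule.mkLinearMap S C x = 0 := ψ.injective (hd.smul_left_cancel.1 (by
      rw [← hLd, ExtLocal.homEquiv_mk, map_zero, smul_zero]
      exact (congrArg (LocalizedModule.mkLinearMap S D) hx).trans (map_zero _)))
    obtain ⟨v, hv, hvx⟩ := LocalizedModule.mem_ker_mkLinearMap_iff.1 (LinearMap.mem_ker.2 h0)
    exact ⟨v, hv, hvx⟩
  · obtain ⟨z, hz⟩ : ∃ z, L d z = LocalizedModule.mkLinearMap S D y :=
      ⟨(↑hd.unit⁻¹ : Rm) • ψ.symm (LocalizedModule.mkLinearMap S D y), by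
        rw [hLd, map_smul, LinearEquiv.apply_symm_apply, smul_smul, IsUnit.mul_val_inv, one_smul]⟩
    obtain ⟨⟨x, t⟩, hxt⟩ := IsLocalizedModule.surj S (LocalizedModule.mkLinearMap S C) z
    have h3 : LocalizedModule.mkLinearMap S D (f x - (t : R) • y) = 0 := by
      dsimp only at hxt
      rw [map_sub, map_smul, ← hz, ← ExtLocal.homEquiv_mk, ← hxt, Submonoid.smul_def,
        ← algebraMap_smul Rm (t : R), map_smul, algebraMap_smul]
      exact sub_self _
    obtain ⟨v, hv, hvx⟩ := LocalizedModule.mem_ker_mkLinearMap_iff.1 (LinearMap.mem_ker.2 h3)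
    refine ⟨v * t, fun h' => (hmp.mem_or_mem h').elim hv t.2, v • x, ?_⟩
    rw [smul_sub, sub_eq_zero] at hvx
    rw [map_smul, hvx, mul_smul]

omit hmp in
/-- the local data of a pointwise canonical module -/
theorem canonical_local_data [LocCoh.IsCohenMacaulayRing R] (C : Type u) [AddCommGroup C] [Module R C]
    [Module.Finite R C]
    (hC : ∀ (q : Ideal R) [q.IsPrime] (nq : ℕ), ringKrullDim (Localization.AtPrime q) = nq →
      ∀ (E₀ : Type u) [AddCommGroup E₀] [Module (Localization.AtPrime q) E₀]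
      (f₀ : IsLocalRing.ResidueField (Localization.AtPrime q) →ₗ[(Localization.AtPrime q)] E₀),
      InjHull.IsInjectiveHull f₀ → Nonempty ((LocalizedModule q.primeCompl C →ₗ[(Localization.AtPrime q)] E₀)
        ≃ₗ[(Localization.AtPrime q)] LocCoh.H (IsLocalRing.maximalIdeal (Localization.AtPrime q)) nq
          (Localization.AtPrime q))) (q : Ideal R) [q.IsPrime] :
    Nontrivial (LocalizedModule q.primeCompl C) ∧ Function.Bijective fun r : Localization.AtPrime q =>
      r • (LinearMap.id : LocalizedModule q.primeCompl C →ₗ[Localization.AtPrime q] _) := by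
  have hcm := LocCoh.IsCohenMacaulayRing.isCohenMacaulayLocalRing_localization q
  have : Module.Finite (Localization.AtPrime q) (LocalizedModule q.primeCompl C) :=
    Module.Finite.of_isLocalizedModule q.primeCompl (LocalizedModule.mkLinearMap q.primeCompl C)
  obtain ⟨n, hn⟩ := Gor18.gor_cm.exists_ringKrullDim_eq_nat (Localization.AtPrime q)
  obtain ⟨E₀, _, _, f₀, hf⟩ :=
    InjHull18.exists_hull (R := Localization.AtPrime q) (IsLocalRing.ResidueField (Localization.AtPrime q))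
  obtain ⟨eK⟩ := hC q n hn E₀ f₀ hf
  exact ⟨CanonDual.nontrivial_of_dual hn eK, CanonSeq.toEnd_bijective hn hf eK⟩

end Groth.Agent.GrMod19.Gor
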