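import Groth.Agent.GrMod19.Bass.InjDim
import Groth.Agent.GrMod19.Bass.Chain
import Groth.Agent.GrMod19.Res
import Groth.Agent.GrInj18.Prime
import Groth.Agent.InjHull18.Local
import Groth.Agent.LC16.FlatBC
import Mathlib.RingTheory.Localization.BaseChange

/-!
A *local ring and its localisation at the maximal homogeneous ideal.
-/

universe u

open DirectSum CategoryTheory GrLC
open Groth.Agent.LC16

namespace Groth.Agent.GrMod19.Gor

set_option autoImplicit false

variable {R : Type u} [CommRing R] [IsNoetherianRing R] {ι : Type} [AddCommGroup ι] [DecidableEq ι]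
  {𝒜 : ι → AddSubgroup R} [GradedRing 𝒜] {m : HomogeneousIdeal 𝒜}

/-- proper homogeneous ideals lie in the maximal one -/
theorem le_star (hm : IsStarLocal 𝒜 m) {J : HomogeneousIdeal 𝒜} (hJ : J ≠ ⊤) : J ≤ m := by
  obtain ⟨_, ⟨K, ⟨hJK, hKt⟩, rfl⟩, hmax⟩ := set_has_maximal_iff_noetherian.2
    (inferInstance : IsNoetherian R R)
    (HomogeneousIdeal.toIdeal '' {K : HomogeneousIdeal 𝒜 | J ≤ K ∧ K ≠ ⊤}) ⟨_, ⟨J, ⟨le_rfl, hJ⟩, rfl⟩⟩
  have hK : IsCoatom K := ⟨hKt, fun K' hK' => by
    by_contra h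
    exact hmax _ ⟨K', ⟨hJK.trans hK'.le, h⟩, rfl⟩ hK'⟩
  rwa [hm.2 K hK] at hJK

/-- homogeneous elements outside the maximal homogeneous ideal are units -/
theorem isUnit_of_notMem (hm : IsStarLocal 𝒜 m) {i : ι} {x : R} (hx : x ∈ 𝒜 i) (hxm : x ∉ m.toIdeal) :
    IsUnit x := by
  let J : HomogeneousIdeal 𝒜 :=
    ⟨Ideal.span {x}, Ideal.homogeneous_span 𝒜 _ fun z hz => ⟨i, hz ▸ hx⟩⟩
  by_contra hu
  have hJ : J ≠ ⊤ := fun h => hu (Ideal.span_singleton_eq_top.1 (congrArg HomogeneousIdeal.toIdeal h))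
  exact hxm (le_star hm hJ (Ideal.mem_span_singleton_self x : x ∈ J.toIdeal))

theorem toIdeal_ne_top (hm : IsStarLocal 𝒜 m) : m.toIdeal ≠ ⊤ := fun h =>
  hm.1.1 (HomogeneousIdeal.toIdeal_injective (h.trans HomogeneousIdeal.toIdeal_top.symm))

theorem star_isPrime [Module.Free ℤ ι] [Module.Finite ℤ ι] (hm : IsStarLocal 𝒜 m) : m.toIdeal.IsPrime :=
  GrRing54.isPrime_of_homogeneous m.isHomogeneous (toIdeal_ne_top hm) fun {x y} hx _ hxy => by
    by_cases hxm : x ∈ m.toIdeal
    · exact Or.inl hxm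
    obtain ⟨u, rfl⟩ := isUnit_of_notMem hm hx.choose_spec hxm
    exact Or.inr (by simpa using Ideal.mul_mem_left _ (↑u⁻¹) hxy)

/-- a unit homogeneous component kills homogeneous torsion at `m` -/
theorem eq_zero_of_killed {M : Type u} [AddCommGroup M] [Module R M] (ℳ : ι → AddSubgroup M)
    [Decomposition ℳ] [SetLike.GradedSMul 𝒜 ℳ] (hm : IsStarLocal 𝒜 m) {x : M}
    {v : R} (hv : v ∉ m.toIdeal) {d : ι} (hx : x ∈ ℳ d) (hvx : v • x = 0) : x = 0 := by
  obtain ⟨e, he⟩ : ∃ e, GrInj18.cmp 𝒜 e v ∉ m.toIdeal := by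
    by_contra! h
    obtain ⟨t, ht⟩ := GrInj18.exists_sum_cmp 𝒜 v
    exact hv (ht ▸ sum_mem fun e _ => h e)
  have h := congrArg (GrInj18.cmp ℳ (e + d)) hvx
  rw [GrInj18.cmp_smul_homog_right 𝒜 ℳ (e + d) hx, add_sub_cancel_right, map_zero] at h
  exact (isUnit_of_notMem hm (GrInj18.cmp_mem 𝒜 e v) he).smul_eq_zero.1 h

variable [hmp : m.toIdeal.IsPrime]

/-- a graded module vanishing at `m` is zero -/
theorem subsingleton_of_loc {M : Type u} [AddCommGroup M] [Module R M] (ℳ : ι → AddSubgroup M)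
    [Decomposition ℳ] [SetLike.GradedSMul 𝒜 ℳ] (hm : IsStarLocal 𝒜 m)
    (h : ∀ x : M, ∃ v ∉ m.toIdeal, v • x = 0) : Subsingleton M :=
  subsingleton_of_forall_eq 0 fun x => GrInj18.eq_zero_of_cmp ℳ fun d => by
    obtain ⟨v, hv, hvx⟩ := h (GrInj18.cmp ℳ d x)
    exact eq_zero_of_killed ℳ hm hv (GrInj18.cmp_mem ℳ d x) hvx

omit [IsNoetherianRing R] in
/-- localising a cyclic module, any ideal -/
theorem nonempty_quot_equiv' (P I : Ideal R) [P.IsPrime] :
    Nonempty (LocalizedModule P.primeCompl (R ⧸ I) ≃ₗ[Localization.AtPrime P]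
      Localization.AtPrime P ⧸ I.map (algebraMap R (Localization.AtPrime P))) := by
  let Rp := Localization.AtPrime P
  let φ : Rp →ₗ[Rp] LocalizedModule P.primeCompl (R ⧸ I) :=
    LinearMap.toSpanSingleton Rp _ (LocalizedModule.mk (Submodule.Quotient.mk 1) 1)
  have hmk : ∀ (a : R) (t : P.primeCompl),
      φ (IsLocalization.mk' Rp a t) = LocalizedModule.mk (Submodule.Quotient.mk a) t := fun a t => by
    rw [LinearMap.toSpanSingleton_apply, ← Localization.mk_eq_mk', LocalizedModule.mk_smul_mk, mul_one,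
      ← Submodule.Quotient.mk_smul, smul_eq_mul, mul_one]
  have hsurj : Function.Surjective φ := fun y => by
    induction y using LocalizedModule.induction_on with
    | h x t =>
    obtain ⟨a, rfl⟩ := Submodule.Quotient.mk_surjective _ x
    exact ⟨_, hmk a t⟩
  have hker : LinearMap.ker φ = I.map (algebraMap R Rp) := by
    ext r
    obtain ⟨a, t, rfl⟩ := IsLocalization.exists_mk'_eq P.primeCompl r
    rw [LinearMap.mem_ker, hmk, IsLocalization.mk'_mem_map_algebraMap_iff P.primeCompl]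
    rw [← LocalizedModule.zero_mk 1, LocalizedModule.mk_eq]
    simp only [one_smul, smul_zero, Submonoid.smul_def]
    constructor
    · rintro ⟨v, hv⟩
      rw [← Submodule.Quotient.mk_smul, Submodule.Quotient.mk_eq_zero, smul_eq_mul] at hv
      exact ⟨v, v.2, hv⟩
    · rintro ⟨v, hv, hva⟩
      exact ⟨⟨v, hv⟩, by rw [← Submodule.Quotient.mk_smul, Submodule.Quotient.mk_eq_zero]; exact hva⟩
  exact ⟨(φ.quotKerEquivOfSurjective hsurj).symm ≪≫ₗ Submodule.quotEquivOfEq _ _ hker⟩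

/-- Bass vanishing at the primes below `P` kills localised Ext out of cyclic modules -/
theorem loc_ext_cyclic {M : Type u} [AddCommGroup M] [Module R M] (P : Ideal R) [P.IsPrime] (i : ℕ)
    (h : ∀ (Q : Ideal R) [Q.IsPrime], Q ≤ P → GrLC.bassNum Q M i = 0) (I : Ideal R) :
    ∀ x : CanonDual.EK (R := R) M (R ⧸ I) i, ∃ v ∉ P, v • x = 0 := by
  induction I using WellFoundedGT.induction with
  | ind I ih =>
    intro x
    by_cases hIP : ¬ I ≤ P
    · obtain ⟨v, hvI, hvP⟩ := SetLike.not_le_iff_exists.1 hIP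
      exact ⟨v, hvP, LC15.ext_smul_eq_zero_of_annihilator (fun z => by
        obtain ⟨r, rfl⟩ := Submodule.Quotient.mk_surjective _ z
        exact (Submodule.Quotient.mk_eq_zero _).2 (I.mul_mem_right r hvI)) i x⟩
    rw [not_not] at hIP
    have lift : ∀ {A : Type u} [AddCommGroup A] [Module R A] (f : A →ₗ[R] R ⧸ I) (a : R),
        Function.Injective f → LinearMap.range f = LinearMap.range (Submodule.mkQ I ∘ₗ LinearMap.lsmul R R a) →
        a ∉ I → ∀ z : CanonDual.EK (R := R) M (R ⧸ I) i,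
          (Abelian.Ext.mk₀ (ModuleCat.ofHom f)).comp z (zero_add i) = 0 → ∃ v ∉ P, v • z = 0 := by
      intro A _ _ f a hf hr ha z hz
      obtain ⟨y, rfl⟩ := Abelian.Ext.contravariant_sequence_exact₂
        (LC15.seqSC_shortExact hf (Bass.exact_mul_factor I a f hr) (Submodule.factor_surjective _))
        (ModuleCat.of R M) z hz
      obtain ⟨v, hv, hvy⟩ := ih _ (left_lt_sup.2 fun hle => ha (hle (Ideal.mem_span_singleton_self a))) y
      exact ⟨v, hv, by rw [← Abelian.Ext.comp_smul, hvy, Abelian.Ext.comp_zero]⟩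
    by_cases hI : Ideal.IsPrime I
    · obtain ⟨v, hv, hvx⟩ := (Bass.bassNum_eq_zero_iff I M i).1 (h I hIP) x
      refine lift (LinearMap.lsmul R (R ⧸ I) v) v ?_ ?_ hv x (by rw [Bass.precomp_smul, hvx])
      · refine (injective_iff_map_eq_zero _).2 fun y hy => ?_
        obtain ⟨r, rfl⟩ := Submodule.Quotient.mk_surjective _ y
        exact (Submodule.Quotient.mk_eq_zero _).2
          ((hI.mem_or_mem ((Submodule.Quotient.mk_eq_zero _).1 hy)).resolve_left hv)
      · ext y
        constructor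
        · rintro ⟨z, rfl⟩
          obtain ⟨r, rfl⟩ := Submodule.Quotient.mk_surjective _ z
          exact ⟨r, rfl⟩
        · rintro ⟨r, rfl⟩
          exact ⟨Submodule.Quotient.mk r, rfl⟩
    · have htop : I ≠ ⊤ := fun h' => Ideal.IsPrime.ne_top ‹P.IsPrime› (top_le_iff.1 (h' ▸ hIP))
      rw [Ideal.isPrime_iff] at hI
      push Not at hI
      obtain ⟨a, b, hab, ha, hb⟩ := hI htop
      let φ := Submodule.mkQ I ∘ₗ LinearMap.lsmul R R a
      let f := Submodule.liftQ (LinearMap.ker φ) φ le_rfl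
      have hJ : I < LinearMap.ker φ := lt_of_le_not_ge
        (fun r hr => (Submodule.Quotient.mk_eq_zero I).2 (I.mul_mem_left a hr))
        fun hle => hb (hle ((Submodule.Quotient.mk_eq_zero I).2 hab))
      obtain ⟨w, hw, hwx⟩ := ih _ hJ ((Abelian.Ext.mk₀ (ModuleCat.ofHom f)).comp x (zero_add i))
      obtain ⟨v, hv, hvx⟩ := lift f a (LinearMap.ker_eq_bot.1 (Submodule.ker_liftQ_eq_bot _ _ _ le_rfl))
        (Submodule.range_liftQ _ _ _) ha (w • x) (by rw [Abelian.Ext.comp_smul, hwx])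
      exact ⟨v * w, fun h' => ((‹P.IsPrime›).mem_or_mem h').elim hv hw, by rw [mul_smul, hvx]⟩

/-- localised Ext vanishing transported to the local ring -/
theorem subsingleton_ext_loc {M : Type u} [AddCommGroup M] [Module R M] (P : Ideal R) [P.IsPrime] (i : ℕ)
    (h : ∀ (Q : Ideal R) [Q.IsPrime], Q ≤ P → GrLC.bassNum Q M i = 0)
    (J : Ideal (Localization.AtPrime P)) :
    Subsingleton (CanonDual.EK (R := Localization.AtPrime P) (LocalizedModule P.primeCompl M)
      (Localization.AtPrime P ⧸ J) i) := by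
  rw [← IsLocalization.map_under P.primeCompl (Localization.AtPrime P) J]
  obtain ⟨e1⟩ := ExtLocal.nonempty_equiv P.primeCompl M i (R ⧸ J.under R)
  obtain ⟨e2⟩ := nonempty_quot_equiv' P (J.under R)
  have hs : Subsingleton (LocalizedModule P.primeCompl (CanonDual.EK (R := R) M (R ⧸ J.under R) i)) :=
    LocalizedModule.subsingleton_iff.2 fun x => loc_ext_cyclic P i h _ x
  exact (e1 ≪≫ₗ CanonLocal.extCongr e2 (LinearEquiv.refl _ _) i).toEquiv.symm.subsingleton

end Groth.Agent.GrMod19.Gor
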