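import Groth.Agent.GrMod19.Gor.Local
import Groth.Agent.GrMod19.Bass.Chain
import Groth.Agent.GrMod19.Bass.Depth
import Groth.Agent.GrMod19.StarInj
import Groth.Agent.GrRing54.Height
import Groth.Agent.EGA4Alg4.CMLoc
import Groth.Agent.CAlg1.CMPoly

/-!
A *local graded ring is Cohen–Macaulay as soon as it is so at its maximal homogeneous ideal.
-/

universe u

open DirectSum GrLC

namespace Groth.Agent.GrMod19.Gor

set_option autoImplicit false

/-- Cohen–Macaulay local rings localise -/
theorem cm_atPrime_of_le {R : Type u} [CommRing R] [IsNoetherianRing R] {C P : Ideal R} [C.IsPrime]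
    [P.IsPrime] (h : C ≤ P) (hP : LocCoh.IsCohenMacaulayLocalRing (Localization.AtPrime P)) :
    LocCoh.IsCohenMacaulayLocalRing (Localization.AtPrime C) := by
  let A := Localization.AtPrime P
  have hd : Disjoint (P.primeCompl : Set R) C := Set.disjoint_left.2 fun x hx hxC => hx (h hxC)
  have hp : (C.map (algebraMap R A)).IsPrime :=
    IsLocalization.isPrime_of_isPrime_disjoint P.primeCompl A C inferInstance hd
  have hcomap : (C.map (algebraMap R A)).comap (algebraMap R A) = C :=
    IsLocalization.under_map_of_isPrime_disjoint P.primeCompl A inferInstance hd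
  let B := Localization.AtPrime (C.map (algebraMap R A))
  have hB : LocCoh.IsCohenMacaulayLocalRing B :=
    { supportDim_eq_depth := (EGA4Alg4.localization_cm_and_dim
        (M := A) hP.supportDim_eq_depth ⟨_, hp⟩
        (Module.mem_support_iff'.2 ⟨1, fun r hr h0 => hr (by
          rw [smul_eq_mul, mul_one] at h0
          rw [h0]
          exact zero_mem _)⟩)).1 }
  have := IsLocalization.isLocalization_isLocalization_atPrime_isLocalization P.primeCompl
    (S := A) (T := B) (C.map (algebraMap R A))
  have : IsLocalization.AtPrime B C := by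
    convert this using 2
    exact hcomap.symm
  exact CAlg1.cm_of_ringEquiv
    (IsLocalization.algEquiv C.primeCompl B (Localization.AtPrime C)).toRingEquiv hB

variable {R : Type u} [CommRing R] [IsNoetherianRing R] {ι : Type} [AddCommGroup ι] [DecidableEq ι]
  [Module.Free ℤ ι] [Module.Finite ℤ ι] {𝒜 : ι → AddSubgroup R} [GradedRing 𝒜]
  {m : HomogeneousIdeal 𝒜} [m.toIdeal.IsPrime]

/-- Cohen–Macaulay at `m` is enough -/
theorem cm_of_star (hm : IsStarLocal 𝒜 m)
    (h : LocCoh.IsCohenMacaulayLocalRing (Localization.AtPrime m.toIdeal)) :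
    LocCoh.IsCohenMacaulayRing R where
  isCohenMacaulayLocalRing_localization P hP := by
    let : Decomposition (GrMod19.selfPiece 𝒜) := inferInstance
    have hC := GrRing54.isPrime_homogeneousCore (𝒜 := 𝒜) P
    have hCle : (P.homogeneousCore 𝒜).toIdeal ≤ m.toIdeal := le_star hm fun htop => hC.ne_top
      ((congrArg HomogeneousIdeal.toIdeal htop).trans HomogeneousIdeal.toIdeal_top)
    have hCM := cm_atPrime_of_le hCle h
    have : (P.map (Ideal.Quotient.mk (P.homogeneousCore 𝒜).toIdeal)).IsPrime :=
      Ideal.map_isPrime_of_surjective Ideal.Quotient.mk_surjective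
        (by rw [Ideal.mk_ker]; exact Ideal.toIdeal_homogeneousCore_le 𝒜 P)
    obtain ⟨d, hd⟩ := ENat.ne_top_iff_exists.1 (Ideal.height_ne_top_of_isPrime
      (I := P.map (Ideal.Quotient.mk (P.homogeneousCore 𝒜).toIdeal)))
    obtain ⟨c, hc⟩ := ENat.ne_top_iff_exists.1
      (Ideal.height_ne_top_of_isPrime (I := (P.homogeneousCore 𝒜).toIdeal))
    have hht : P.height = ((c + d : ℕ) : ℕ∞) := by
      rw [GrRing54.height_eq_core_add 𝒜 P, ← hc, ← hd, Nat.cast_add]
    obtain ⟨h1, h2⟩ := Bass.bass_core 𝒜 (GrMod19.selfPiece 𝒜) (M := R) P d hd.symm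
    have hCd : (c : ℕ∞) ≤ LocCoh.depth (Localization.AtPrime (P.homogeneousCore 𝒜).toIdeal)
        (LocalizedModule (P.homogeneousCore 𝒜).toIdeal.primeCompl R) := by
      refine le_of_eq ?_
      have h3 := hCM.supportDim_eq_depth
      rw [Module.supportDim_self_eq_ringKrullDim,
        IsLocalization.AtPrime.ringKrullDim_eq_height (P.homogeneousCore 𝒜).toIdeal, ← hc] at h3
      exact WithBot.coe_inj.1 h3
    rw [CAlg1.cmLocal_iff, IsLocalization.AtPrime.ringKrullDim_eq_height P, hht]
    refine WithBot.coe_le_coe.2 (show ((c + d : ℕ) : ℕ∞) ≤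
      LocCoh.depth (Localization.AtPrime P) (LocalizedModule P.primeCompl R) from ?_)
    rw [Bass.natCast_le_depth_iff_bass]
    intro i hi
    rcases lt_or_ge i d with hid | hid
    · exact h1 i hid
    · rw [show i = (i - d) + d by omega, h2]
      exact (Bass.natCast_le_depth_iff_bass _ c).1 hCd _ (by omega)

end Groth.Agent.GrMod19.Gor
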