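import Groth.Agent.GrMod19.RegSeq
import Groth.Agent.GrMod19.Gor.Local
import Groth.Agent.GrMod19.Gor.StarCM
import Groth.Agent.LC15.Gamma
import Groth.Agent.GrCI54.Sop
import Mathlib.RingTheory.Artinian.Module
import Mathlib.RingTheory.KrullDimension.NonZeroDivisors

/-!
Regular linear forms for an infinite residue field.
-/

universe u

open DirectSum GrLC

namespace Groth.Agent.GrMod19.Gor

set_option autoImplicit false

variable {R : Type u} [CommRing R] [IsNoetherianRing R] {𝒜 : ℤ → AddSubgroup R} [GradedRing 𝒜]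
  [IsArtinianRing (deg0 𝒜)] {m : HomogeneousIdeal 𝒜} (hm : IsStarLocal 𝒜 m)
include hm

/-- all primes have the same part in degree zero -/
theorem mem_prime_iff_mem_star (P : Ideal R) [hP : P.IsPrime] {c : R} (hc : c ∈ 𝒜 0) :
    c ∈ P ↔ c ∈ m.toIdeal := by
  have hC := GrRing54.isPrime_homogeneousCore (𝒜 := 𝒜) P
  have hCle : (P.homogeneousCore 𝒜).toIdeal ≤ m.toIdeal := le_star hm fun htop => hC.ne_top
    ((congrArg HomogeneousIdeal.toIdeal htop).trans HomogeneousIdeal.toIdeal_top)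
  have hne : m.toIdeal.comap (deg0 𝒜).subtype ≠ ⊤ := fun h => toIdeal_ne_top hm
    ((Ideal.eq_top_iff_one _).2 (show (1 : deg0 𝒜) ∈ m.toIdeal.comap (deg0 𝒜).subtype by rw [h]; trivial))
  have hmax : ((P.homogeneousCore 𝒜).toIdeal.comap (deg0 𝒜).subtype).IsMaximal :=
    IsArtinianRing.isMaximal_of_isPrime _
  have heq := hmax.eq_of_le hne (Ideal.comap_mono hCle)
  constructor
  · exact fun h => hCle (Ideal.mem_homogeneousCore_of_homogeneous_of_mem ⟨0, hc⟩ h)
  · intro h
    have h1 : (⟨c, hc⟩ : deg0 𝒜) ∈ m.toIdeal.comap (deg0 𝒜).subtype := h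
    rw [← heq] at h1
    exact Ideal.toIdeal_homogeneousCore_le 𝒜 P h1

variable (hpn : NonnegGr 𝒜)
include hpn

/-- linear forms avoid finitely many primes -/
theorem exists_linear_avoid [Infinite (R ⧸ m.toIdeal)] (s : Finset (Ideal R))
    (hs : ∀ P ∈ s, P.IsPrime ∧ ∃ y ∈ 𝒜 1, y ∉ P) : ∃ x ∈ 𝒜 1, ∀ P ∈ s, x ∉ P := by
  classical
  obtain ⟨a, ha⟩ : ∃ a : HomogeneousIdeal 𝒜, IsPlus a := ⟨GrSyz.irrel 𝒜, isPlus_irrel hpn⟩
  induction s using Finset.induction_on with
  | empty => exact ⟨0, zero_mem _, by simp⟩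
  | insert P s hPs ih =>
    obtain ⟨x, hx, hxs⟩ := ih fun Q hQ => hs Q (Finset.mem_insert_of_mem hQ)
    obtain ⟨hP, y, hy, hyP⟩ := hs P (Finset.mem_insert_self _ _)
    by_cases hxP : x ∈ P
    swap
    · exact ⟨x, hx, fun Q hQ => (Finset.mem_insert.1 hQ).elim (fun h => h ▸ hxP) (hxs Q)⟩
    let B : Ideal R → Set (R ⧸ m.toIdeal) := fun Q => Ideal.Quotient.mk m.toIdeal '' {c | c ∈ 𝒜 0 ∧ x + c * y ∈ Q}
    have hB : ∀ Q ∈ s, (B Q).Subsingleton := by
      rintro Q hQ _ ⟨c, ⟨hc, hcQ⟩, rfl⟩ _ ⟨c', ⟨hc', hcQ'⟩, rfl⟩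
      have hQp := (hs Q (Finset.mem_insert_of_mem hQ)).1
      have h1 : (c - c') * y ∈ Q := by
        have h2 := Q.sub_mem hcQ hcQ'
        rwa [show x + c * y - (x + c' * y) = (c - c') * y by ring] at h2
      rcases hQp.mem_or_mem h1 with h2 | h2
      · exact Ideal.Quotient.eq.2 ((mem_prime_iff_mem_star hm Q (sub_mem hc hc')).1 h2)
      · exact absurd ((Q.add_mem_iff_left (Q.mul_mem_left c h2)).1 hcQ) (hxs Q hQ)
    obtain ⟨t, ht⟩ := (Set.Finite.insert (0 : R ⧸ m.toIdeal)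
      (Set.Finite.biUnion s.finite_toSet fun Q hQ => (hB Q hQ).finite)).exists_notMem
    rw [Set.mem_insert_iff, not_or, Set.mem_iUnion₂] at ht
    obtain ⟨r, rfl⟩ := Ideal.Quotient.mk_surjective t
    have hr : Ideal.Quotient.mk m.toIdeal r = Ideal.Quotient.mk m.toIdeal (cmp 𝒜 0 r) :=
      Ideal.Quotient.eq.2 ((plus_le_and_isMaximal hpn hm ha).1 ((mem_plus_iff hpn ha _).2 (by
        rw [map_sub, cmp_of_mem 𝒜 (cmp_mem 𝒜 0 r), sub_self])))
    rw [hr] at ht
    refine ⟨x + cmp 𝒜 0 r * y, add_mem hx ?_, fun Q hQ h => ?_⟩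
    · have h1 := SetLike.GradedMul.mul_mem (cmp_mem 𝒜 0 r) hy
      rwa [zero_add] at h1
    rcases Finset.mem_insert.1 hQ with rfl | hQ
    · have h1 := (Q.add_mem_iff_right hxP).1 h
      rcases hP.mem_or_mem h1 with h2 | h2
      · exact ht.1 (Ideal.Quotient.eq_zero_iff_mem.2 ((mem_prime_iff_mem_star hm Q (cmp_mem 𝒜 0 r)).1 h2))
      · exact hyP h2
    · exact ht.2 ⟨Q, hQ, _, ⟨cmp_mem 𝒜 0 r, h⟩, rfl⟩

variable (hstd : Ideal.span (⋃ k ∈ Set.Ioi (0 : ℤ), (𝒜 k : Set R)) = Ideal.span ((𝒜 1 : AddSubgroup R) : Set R))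
include hstd

/-- a prime containing the linear forms is the maximal one -/
theorem star_le_prime (P : Ideal R) [P.IsPrime] (h : ∀ y ∈ 𝒜 1, y ∈ P) : m.toIdeal ≤ P := by
  intro r hr
  obtain ⟨a, ha⟩ : ∃ a : HomogeneousIdeal 𝒜, IsPlus a := ⟨GrSyz.irrel 𝒜, isPlus_irrel hpn⟩
  have haP : a.toIdeal ≤ P := by
    rw [ha, hstd, Ideal.span_le]
    exact h
  have h0 : cmp 𝒜 0 r ∈ m.toIdeal := m.isHomogeneous 0 hr
  have h1 : r - cmp 𝒜 0 r ∈ P := haP ((mem_plus_iff hpn ha _).2 (by
    rw [map_sub, cmp_of_mem 𝒜 (cmp_mem 𝒜 0 r), sub_self]))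
  exact (P.sub_mem_iff_left ((mem_prime_iff_mem_star hm P (cmp_mem 𝒜 0 r)).2 h0)).1 h1

/-- a module without torsion has a regular linear form -/
theorem exists_linear_regular [Infinite (R ⧸ m.toIdeal)] {M : Type u} [AddCommGroup M] [Module R M]
    [Module.Finite R M] (h : GrLC.gam m.toIdeal M = ⊥) : ∃ x ∈ 𝒜 1, IsSMulRegular M x := by
  classical
  have hfin := associatedPrimes.finite R M
  obtain ⟨x, hx, hxs⟩ := exists_linear_avoid hm hpn hfin.toFinset (fun P hP => by
    have hPA : IsAssociatedPrime P M := AssociatedPrimes.mem_iff.1 (hfin.mem_toFinset.1 hP)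
    refine ⟨hPA.isPrime, ?_⟩
    by_contra hall
    push Not at hall
    have := hPA.isPrime
    obtain ⟨hprime, z, hz⟩ := Submodule.isAssociatedPrime_iff.1 hPA
    have hz0 : z = 0 := by
      rw [← Submodule.mem_bot R, ← h]
      refine ⟨1, fun r hr => ?_⟩
      rw [pow_one] at hr
      have := star_le_prime hm hpn hstd P hall hr
      rw [hz] at this
      simpa using this
    exact hprime.ne_top (by rw [hz, hz0]; ext r; simp))
  refine ⟨x, hx, ?_⟩
  by_contra hreg
  have hzd : x ∈ ⋃ p ∈ associatedPrimes R M, (p : Set R) := by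
    rw [biUnion_associatedPrimes_eq_zero_divisors]
    simp only [IsSMulRegular, Function.Injective, not_forall] at hreg
    obtain ⟨u, v, huv, hne⟩ := hreg
    exact ⟨u - v, sub_ne_zero.2 hne, by rw [smul_sub]; exact sub_eq_zero.2 huv⟩
  obtain ⟨P, hP, hxP⟩ := Set.mem_iUnion₂.1 hzd
  exact hxs P (hfin.mem_toFinset.2 hP) hxP

/-- linear forms forming a regular sequence, with the dimension of the quotient -/
theorem exists_linear_chain [LocCoh.IsCohenMacaulayRing R] [Infinite (R ⧸ m.toIdeal)] {d : ℕ}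
    (hd : ringKrullDim R = d) : ∀ j, j ≤ d → ∃ f : Fin j → R, (∀ i, f i ∈ 𝒜 1) ∧
      (∀ i : Fin j, ∀ r, r * f i ∈ Ideal.span (f '' {k | k < i}) → r ∈ Ideal.span (f '' {k | k < i})) ∧
      RingTheory.Sequence.IsWeaklyRegular R (List.ofFn f) ∧
      ringKrullDim (R ⧸ Ideal.span (Set.range f)) + (j : WithBot ℕ∞) ≤ d := by
  intro j
  induction j with
  | zero =>
    intro _
    refine ⟨Fin.elim0, fun i => i.elim0, fun i => i.elim0, by simp, ?_⟩
    rw [Nat.cast_zero, add_zero, ← hd]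
    exact ringKrullDim_quotient_le _
  | succ j ih =>
    intro hj
    obtain ⟨f, hf, hcan, hreg, hdim⟩ := ih (by omega)
    obtain ⟨a, ha⟩ : ∃ a : HomogeneousIdeal 𝒜, IsPlus a := ⟨GrSyz.irrel 𝒜, isPlus_irrel hpn⟩
    have hfm : ∀ i, f i ∈ m.toIdeal := fun i =>
      (plus_le_and_isMaximal hpn hm ha).1 (mem_plus_of_mem ha one_pos (hf i))
    have hJ : preI f j = Ideal.span (Set.range f) := by
      rw [preI]
      congr 1
      rw [show {i : Fin j | (i : ℕ) < j} = Set.univ from Set.eq_univ_of_forall fun i => i.2, Set.image_univ]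
    have hP := isHomogeneous_preI (deg := fun _ => (1 : ℤ)) hf j
    let : Decomposition (GrInj18.quotPieces 𝒜 (preI f j : Submodule R R)) :=
      (GrInj18.quotPieces_isInternal 𝒜 hP).chooseDecomposition
    obtain ⟨hv, -⟩ := vEnd_preI m hf (fun _ => zero_le_one) hfm hreg
      (fun i hi k => vanH_below hpn hm hd hi k) j le_rfl (by omega)
    have hgam : GrLC.gam m.toIdeal (R ⧸ (preI f j : Submodule R R)) = ⊥ := by
      refine (Submodule.eq_bot_iff _).2 fun z hz => eq_zero_of_cmp (GrInj18.quotPieces 𝒜 (preI f j : Submodule R R))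
        fun k => eq_zero_of_vanH_zero m (hv 0 (by omega) k)
          (isHomogeneous_gam (GrInj18.quotPieces 𝒜 (preI f j : Submodule R R)) m k hz) (cmp_mem _ k z)
    obtain ⟨x, hx, hxr⟩ := exists_linear_regular hm hpn hstd hgam
    rw [hJ] at hxr
    have hxr' : ∀ r, r * x ∈ Ideal.span (Set.range f) → r ∈ Ideal.span (Set.range f) := fun r hr =>
      (Submodule.Quotient.mk_eq_zero (M := R) _).1 (hxr (show x • Submodule.Quotient.mk r = x • (0 : R ⧸ Ideal.span (Set.range f)) by
        rw [smul_zero, ← Submodule.Quotient.mk_smul, smul_eq_mul, mul_comm]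
        exact (Submodule.Quotient.mk_eq_zero _).2 hr))
    let g : Fin (j + 1) → R := Fin.snoc f x
    have himg : ∀ i : Fin (j + 1), g '' {k | k < i} = f '' {k | (k : ℕ) < i} := fun i => by
      ext z
      constructor
      · rintro ⟨k, hk, rfl⟩
        have hk' : (k : ℕ) < j := lt_of_lt_of_le hk (Nat.lt_succ_iff.1 i.2)
        exact ⟨⟨k, hk'⟩, hk, (Fin.snoc_castSucc (α := fun _ => R) x f ⟨k, hk'⟩).symm⟩
      · rintro ⟨k, hk, rfl⟩
        exact ⟨k.castSucc, hk, Fin.snoc_castSucc (α := fun _ => R) x f k⟩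
    have hcan' : ∀ i, ∀ r, r * g i ∈ Ideal.span (g '' {k | k < i}) → r ∈ Ideal.span (g '' {k | k < i}) := by
      intro i r hr
      rw [himg] at hr ⊢
      induction i using Fin.lastCases with
      | last =>
        rw [show {k : Fin j | (k : ℕ) < (Fin.last j : ℕ)} = Set.univ from Set.eq_univ_of_forall fun k => k.2,
          Set.image_univ] at hr ⊢
        rw [show g (Fin.last j) = x from Fin.snoc_last (α := fun _ => R) x f] at hr
        exact hxr' r hr
      | cast i =>
        rw [show g i.castSucc = f i from Fin.snoc_castSucc (α := fun _ => R) x f i] at hr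
        exact hcan i r hr
    have hrange : Ideal.span (Set.range g) = Ideal.span (Set.range f) ⊔ Ideal.span {x} := by
      rw [← Ideal.span_union]
      congr 1
      ext z
      constructor
      · rintro ⟨k, rfl⟩
        induction k using Fin.lastCases with
        | last => exact Or.inr (Fin.snoc_last (α := fun _ => R) x f)
        | cast k => exact Or.inl ⟨k, (Fin.snoc_castSucc (α := fun _ => R) x f k).symm⟩
      · rintro (⟨k, rfl⟩ | rfl)
        · exact ⟨k.castSucc, Fin.snoc_castSucc (α := fun _ => R) x f k⟩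
        · exact ⟨Fin.last j, Fin.snoc_last (α := fun _ => R) z f⟩
    refine ⟨g, fun i => ?_, hcan', GrCI54.isWeaklyRegular_of_cancel hcan', ?_⟩
    · induction i using Fin.lastCases with
      | last => rw [show g (Fin.last j) = x from Fin.snoc_last (α := fun _ => R) x f]; exact hx
      | cast i => rw [show g i.castSucc = f i from Fin.snoc_castSucc (α := fun _ => R) x f i]; exact hf i
    · have h0 : Ideal.Quotient.mk (Ideal.span (Set.range f)) x ∈ nonZeroDivisors (R ⧸ Ideal.span (Set.range f)) :=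
        mem_nonZeroDivisors_iff_right.2 fun z hz => by
          obtain ⟨r, rfl⟩ := Ideal.Quotient.mk_surjective z
          rw [← map_mul, Ideal.Quotient.eq_zero_iff_mem] at hz
          exact Ideal.Quotient.eq_zero_iff_mem.2 (hxr' r hz)
      have h1 := ringKrullDim_quotient_succ_le_of_nonZeroDivisor (R := R ⧸ Ideal.span (Set.range f)) h0
      rw [← Set.image_singleton, ← Ideal.map_span,
        ringKrullDim_eq_of_ringEquiv (DoubleQuot.quotQuotEquivQuotSup (Ideal.span (Set.range f)) (Ideal.span {x})),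
        ← hrange] at h1
      refine le_trans (le_of_eq ?_) ((add_le_add_left h1 _).trans hdim)
      rw [Nat.cast_succ, add_comm (j : WithBot ℕ∞) 1, add_assoc]

/-- the positive part lies in the ideal of such a chain -/
theorem star_pow_le_chain {d : ℕ} (f : Fin d → R) (hf : ∀ i, f i ∈ 𝒜 1)
    (hdim : ringKrullDim (R ⧸ Ideal.span (Set.range f)) + (d : WithBot ℕ∞) ≤ d) :
    ∃ k : ℕ, m.toIdeal ^ k ≤ Ideal.span (Set.range f) := by
  refine Ideal.exists_pow_le_of_le_radical_of_fg ?_ (IsNoetherian.noetherian _)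
  rw [Ideal.radical_eq_sInf]
  refine le_sInf ?_
  rintro P ⟨hJP, hP⟩
  set J := Ideal.span (Set.range f)
  have h0 : ringKrullDim (R ⧸ J) ≤ 0 := by
    refine (ENat.WithBot.add_le_add_natCast_right_iff (c := d)).1 ?_
    rwa [zero_add]
  have hC := GrRing54.isPrime_homogeneousCore (𝒜 := 𝒜) P
  have hCle : (P.homogeneousCore 𝒜).toIdeal ≤ m.toIdeal := le_star hm fun htop => hC.ne_top
    ((congrArg HomogeneousIdeal.toIdeal htop).trans HomogeneousIdeal.toIdeal_top)
  have hJC : J ≤ (P.homogeneousCore 𝒜).toIdeal := Ideal.span_le.2 (by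
    rintro _ ⟨i, rfl⟩
    exact Ideal.mem_homogeneousCore_of_homogeneous_of_mem ⟨1, hf i⟩ (hJP (Ideal.subset_span ⟨i, rfl⟩)))
  have : Ring.KrullDimLE 0 (R ⧸ J) := Ring.krullDimLE_iff.2 h0
  have hq : ((P.homogeneousCore 𝒜).toIdeal.map (Ideal.Quotient.mk J)).IsMaximal := by
    have := Ideal.map_isPrime_of_surjective (I := (P.homogeneousCore 𝒜).toIdeal)
      (f := Ideal.Quotient.mk J) Ideal.Quotient.mk_surjective (by rw [Ideal.mk_ker]; exact hJC)
    exact Ideal.isMaximal_of_isPrime _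
  have hqc : (P.homogeneousCore 𝒜).toIdeal.IsMaximal := by
    have h1 := Ideal.comap_isMaximal_of_surjective (Ideal.Quotient.mk J) Ideal.Quotient.mk_surjective
      (K := (P.homogeneousCore 𝒜).toIdeal.map (Ideal.Quotient.mk J))
    rwa [Ideal.comap_map_of_surjective _ Ideal.Quotient.mk_surjective, ← RingHom.ker_eq_comap_bot,
      Ideal.mk_ker, sup_eq_left.2 hJC] at h1
  rw [← hqc.eq_of_le (toIdeal_ne_top hm) hCle]
  exact Ideal.toIdeal_homogeneousCore_le 𝒜 P

end Groth.Agent.GrMod19.Gor
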