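import Groth.Agent.GrMod19.CMTop
import Groth.Agent.GrMod19.Res
import Groth.Agent.LC16.ChangeRings
import Groth.Agent.LC15.Dim
import Groth.Agent.LC15.Gamma
import Mathlib.RingTheory.Ideal.Quotient.Operations
import Mathlib.RingTheory.KrullDimension.NonZeroDivisors

/-!
Two homogeneous elements acting on the top local cohomology.
-/

universe u

open DirectSum GrLC

namespace Groth.Agent.GrMod19.Gor

set_option autoImplicit false

/-- cohomology of a quotient ring above its dimension -/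
theorem subsingleton_H_quot {R : Type u} [CommRing R] [IsNoetherianRing R] (I J : Ideal R) {d : ℕ}
    (hd : ringKrullDim (R ⧸ J) ≤ d) {i : ℕ} (hi : d < i) :
    Subsingleton (LocCoh.H I i (R ⧸ J)) := by
  obtain ⟨φ, -⟩ := LC16.ChangeRings.exists_equiv (R := R) (R' := R ⧸ J) I i (R ⧸ J)
  have := LC15.cdLE_of_ringKrullDim_le (I.map (algebraMap R (R ⧸ J))) hd (R ⧸ J) i hi
  exact φ.symm.toEquiv.subsingleton

variable {R : Type u} [CommRing R] {𝒜 : ℤ → AddSubgroup R} [GradedRing 𝒜]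

/-- elements of positive degree divisible by `q` acting surjectively on the top cohomology, and on
the kernel of the first one -/
theorem exists_surjective_pair [LocCoh.IsCohenMacaulayRing R] (hpos : NonnegGr 𝒜)
    {m : HomogeneousIdeal 𝒜} (hm : IsStarLocal 𝒜 m) (hma : IsPlus m) {n : ℕ}
    (hn : ringKrullDim R = n) (h2 : 2 ≤ n) (I : StarInjRes 𝒜 𝒜) {q : ℕ} (hq : 0 < q) :
    ∃ (x y : R) (N N' : ℤ), 0 < N ∧ 0 < N' ∧ (q : ℤ) ∣ N ∧ (q : ℤ) ∣ N' ∧ x ∈ 𝒜 N ∧ y ∈ 𝒜 N' ∧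
      IsSMulRegular R x ∧ (∀ r, y * r ∈ Ideal.span {x} → r ∈ Ideal.span {x}) ∧
      (∀ k : I.H m n, ∃ h, x • h = k) ∧
      ∀ k : I.H m n, x • k = 0 → ∃ h, x • h = 0 ∧ y • h = k := by
  classical
  let 𝔪 := m.toIdeal
  obtain ⟨hlow, -⟩ := lc_top hpos hm hn
  have hgR : GrLC.gam 𝔪 R = ⊥ := (LC15.subsingleton_H0_iff 𝔪 R).1 (hlow 0 (by omega))
  obtain ⟨i, x₀, hi, hx₀, hx₀r⟩ := exists_regular_homog (M := R) hpos hma hgR
  let x := x₀ ^ q
  have hxr : IsSMulRegular R x := hx₀r.pow q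
  have hxd : x ∈ 𝒜 (q * i) := by
    have := SetLike.pow_mem_graded (A := 𝒜) q hx₀
    rwa [nsmul_eq_mul] at this
  let J : Ideal R := Ideal.span {x}
  have hdim1 : ringKrullDim (R ⧸ J) ≤ ((n - 1 : ℕ) : WithBot ℕ∞) := by
    have h := ringKrullDim_quotient_succ_le_of_nonZeroDivisor (R := R) (r := x)
      (mem_nonZeroDivisors_iff_right.2 fun z hz => hxr (show x • z = x • 0 by
        rw [smul_zero, smul_eq_mul, mul_comm]; exact hz))
    rw [hn] at h
    obtain ⟨e, rfl⟩ : ∃ e, n = e + 1 := ⟨n - 1, by omega⟩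
    simp only [Nat.add_sub_cancel]
    rw [Nat.cast_succ] at h
    exact ENat.WithBot.add_le_add_one_right_iff.1 h
  let f : R →ₗ[R] R := LinearMap.lsmul R R x
  have hf : Function.Injective f := hxr
  have hex : Function.Exact f J.mkQ := by
    rw [LinearMap.exact_iff, Submodule.ker_mkQ]
    ext z
    rw [Ideal.mem_span_singleton']
    exact ⟨fun ⟨c, hc⟩ => ⟨c, by rw [← hc]; exact mul_comm x c⟩,
      fun ⟨c, hc⟩ => ⟨c, by rw [← hc]; exact mul_comm c x⟩⟩
  have hg := Submodule.mkQ_surjective J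
  have hlow1 : ∀ j, j + 1 < n → Subsingleton (LocCoh.H 𝔪 j (R ⧸ J)) := fun j hj =>
    LC15.subsingleton_H_right 𝔪 j hf hex hg (hlow j (by omega)) (hlow (j + 1) hj)
  have hgR1 : GrLC.gam 𝔪 (R ⧸ J) = ⊥ := (LC15.subsingleton_H0_iff 𝔪 (R ⧸ J)).1 (hlow1 0 (by omega))
  let 𝒥 : ℤ → AddSubgroup (R ⧸ (J : Submodule R R)) := GrInj18.quotPieces 𝒜 (J : Submodule R R)
  let : Decomposition 𝒥 := (GrInj18.quotPieces_isInternal 𝒜
    (Ideal.homogeneous_span 𝒜 _ (by rintro _ rfl; exact ⟨_, hxd⟩))).chooseDecomposition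
  obtain ⟨i', y₀, hi', hy₀, hy₀r⟩ := exists_regular_homog (M := R ⧸ J) hpos hma hgR1
  let y := y₀ ^ q
  have hyr : IsSMulRegular (R ⧸ J) y := hy₀r.pow q
  have hyd : y ∈ 𝒜 (q * i') := by
    have := SetLike.pow_mem_graded (A := 𝒜) q hy₀
    rwa [nsmul_eq_mul] at this
  have hyr' : ∀ r, y * r ∈ J → r ∈ J := fun r hr => (Submodule.Quotient.mk_eq_zero (M := R) J).1
    (hyr (show y • Submodule.Quotient.mk r = y • (0 : R ⧸ J) by
      rw [smul_zero, ← Submodule.Quotient.mk_smul]; exact (Submodule.Quotient.mk_eq_zero _).2 hr))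
  let J' : Ideal R := J ⊔ Ideal.span {y}
  let f' : (R ⧸ J) →ₗ[R] (R ⧸ J) := LinearMap.lsmul R _ y
  let g' : (R ⧸ J) →ₗ[R] (R ⧸ J') := Submodule.factor le_sup_left
  have hex' : Function.Exact f' g' := by
    intro z
    obtain ⟨r, rfl⟩ := Submodule.mkQ_surjective _ z
    constructor
    · intro h
      obtain ⟨p, hp, s, hs, rfl⟩ := Submodule.mem_sup.1 ((Submodule.Quotient.mk_eq_zero (M := R) J').1 h)
      obtain ⟨c, rfl⟩ := Ideal.mem_span_singleton'.1 hs
      refine ⟨Submodule.mkQ J c, ?_⟩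
      show y • Submodule.mkQ J c = Submodule.mkQ J (p + c * y)
      rw [map_add, ← map_smul, show Submodule.mkQ J p = 0 from (Submodule.Quotient.mk_eq_zero _).2 hp,
        zero_add, smul_eq_mul, mul_comm]
    · rintro ⟨w, hw⟩
      obtain ⟨c, rfl⟩ := Submodule.mkQ_surjective _ w
      rw [← hw]
      exact (Submodule.Quotient.mk_eq_zero (M := R) J').2
        (Ideal.mem_sup_right (Ideal.mul_mem_right _ _ (Ideal.mem_span_singleton_self y)))
  have hdim2 : ringKrullDim (R ⧸ J') ≤ ((n - 2 : ℕ) : WithBot ℕ∞) := by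
    have hy0 : Ideal.Quotient.mk J y ∈ nonZeroDivisors (R ⧸ J) :=
      mem_nonZeroDivisors_iff_right.2 fun z hz => hyr (show y • z = y • (0 : R ⧸ J) by
        rw [smul_zero, Algebra.smul_def, Ideal.Quotient.algebraMap_eq, mul_comm]; exact hz)
    have h := ringKrullDim_quotient_succ_le_of_nonZeroDivisor (R := R ⧸ J) hy0
    rw [← Set.image_singleton, ← Ideal.map_span,
      ringKrullDim_eq_of_ringEquiv (DoubleQuot.quotQuotEquivQuotSup J (Ideal.span {y}))] at h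
    have h' := h.trans hdim1
    obtain ⟨e, rfl⟩ : ∃ e, n = e + 2 := ⟨n - 2, by omega⟩
    rw [show e + 2 - 1 = e + 1 by omega, Nat.cast_succ] at h'
    rw [Nat.add_sub_cancel]
    exact ENat.WithBot.add_le_add_one_right_iff.1 h'
  obtain ⟨eI⟩ := nonempty_H_equiv I m n
  obtain ⟨e, rfl⟩ : ∃ e, n = e + 1 := ⟨n - 1, by omega⟩
  have hs1 : Function.Surjective (LC15.Hmap 𝔪 (e + 1) f) := fun z => by
    have := subsingleton_H_quot 𝔪 J hdim1 (show e + 1 - 1 < e + 1 by omega)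
    exact ((LC15.H_exact₂ 𝔪 (e + 1) hf hex hg z).1 (Subsingleton.elim _ _))
  have hs2 : Function.Surjective (LC15.Hmap 𝔪 e f') := fun z => by
    have := subsingleton_H_quot 𝔪 J' hdim2 (show e + 1 - 2 < e by omega)
    exact ((LC15.H_exact₂ 𝔪 e (show Function.Injective f' from hyr) hex' (Submodule.factor_surjective _) z).1 (Subsingleton.elim _ _))
  refine ⟨x, y, q * i, q * i', mul_pos (Int.natCast_pos.2 hq) hi, mul_pos (Int.natCast_pos.2 hq) hi',
    dvd_mul_right _ _, dvd_mul_right _ _, hxd, hyd, hxr, hyr', fun k => ?_, fun k hk => ?_⟩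
  · obtain ⟨h, hh⟩ := hs1 (eI k)
    refine ⟨eI.symm h, eI.injective ?_⟩
    rw [map_smul, eI.apply_symm_apply, ← hh]
    exact (LC15.Hmap_lsmul 𝔪 (e + 1) x h).symm
  · have hk' : LC15.Hmap 𝔪 (e + 1) f (eI k) = 0 := by
      rw [LC15.Hmap_lsmul, ← map_smul, hk, map_zero]
    obtain ⟨p, hp⟩ := (LC15.H_exact₁ 𝔪 e hf hex hg (eI k)).1 hk'
    obtain ⟨p', hp'⟩ := hs2 p
    refine ⟨eI.symm (LC15.Hδ 𝔪 e hf hex hg p'), eI.injective ?_, eI.injective ?_⟩
    · rw [map_smul, map_zero, eI.apply_symm_apply, ← LC15.Hmap_lsmul]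
      exact (LC15.H_exact₁ 𝔪 e hf hex hg).apply_apply_eq_zero p'
    · rw [map_smul, eI.apply_symm_apply, ← map_smul, ← LC15.Hmap_lsmul 𝔪 e y p', ← hp, ← hp']

end Groth.Agent.GrMod19.Gor
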