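import Groth.Agent.GrMod19.Gor.Iso
import Groth.Agent.GrInj18.Hull
import Groth.Agent.GrInj18.StarEss
import Groth.Agent.Gor18.LocCohGor
import Groth.Agent.Gor18.Local

/-!
Gorenstein *local rings and their top graded local cohomology.
-/

universe u

open DirectSum CategoryTheory GrLC
open Groth.Agent.LC16

namespace Groth.Agent.GrMod19.Gor

set_option autoImplicit false

variable {R : Type u} [CommRing R] [IsNoetherianRing R] {ι : Type} [AddCommGroup ι] [DecidableEq ι]
  [Module.Free ℤ ι] [Module.Finite ℤ ι] {𝒜 : ι → AddSubgroup R} [GradedRing 𝒜]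
  {m : HomogeneousIdeal 𝒜} [hmp : m.toIdeal.IsPrime]

omit [Module.Free ℤ ι] [Module.Finite ℤ ι] in
/-- an injective localised map with essential image into any module from an injective one is onto -/
theorem surjective_of_essential {A : Type u} [CommRing A] {X Y : Type u} [AddCommGroup X] [Module A X]
    [AddCommGroup Y] [Module A Y] (hX : Module.Injective A X) (f : X →ₗ[A] Y) (hf : Function.Injective f)
    (hess : ∀ N : Submodule A Y, N ≠ ⊥ → N ⊓ LinearMap.range f ≠ ⊥) : Function.Surjective f := by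
  obtain ⟨r, hr⟩ := hX.out f hf LinearMap.id
  intro y
  refine ⟨r y, sub_eq_zero.1 (by_contra fun hne => ?_)⟩
  have hN : LinearMap.ker r ≠ ⊥ := (Submodule.ne_bot_iff _).2 ⟨f (r y) - y, by
    rw [LinearMap.mem_ker, map_sub, hr]; exact sub_self _, hne⟩
  obtain ⟨z, ⟨hz, x, rfl⟩, hz0⟩ := (Submodule.ne_bot_iff _).1 (hess _ hN)
  rw [SetLike.mem_coe, LinearMap.mem_ker, hr] at hz
  exact hz0 (by rw [show x = 0 from hz, map_zero])

/-- a graded module injective at `m` is *injective -/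
theorem isStarInj_of_loc_injective (hm : IsStarLocal 𝒜 m) {H : Type u} [AddCommGroup H] [Module R H]
    (ℋ : ι → AddSubgroup H) [Decomposition ℋ] [SetLike.GradedSMul 𝒜 ℋ]
    (hH : Module.Injective (Localization.AtPrime m.toIdeal) (LocalizedModule m.toIdeal.primeCompl H)) :
    IsStarInj 𝒜 ℋ := by
  refine GrInj18.isStarInj_of_forall_surjective 𝒜 ℋ fun X f hf => ?_
  let S := m.toIdeal.primeCompl
  have hess := GrInj18.isEssentialInj_of_isStarEss 𝒜 ℋ X.gr hf
  let L : LocalizedModule S H →ₗ[Localization.AtPrime m.toIdeal] LocalizedModule S X.carrier :=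
    LocalizedModule.map S f
  have hL : Function.Surjective L := surjective_of_essential hH L
    (LocalizedModule.map_injective S f hf.injective) fun N hN => by
      obtain ⟨y, ⟨hyN, hy⟩, hy0⟩ := (Submodule.ne_bot_iff _).1
        (InjHull18.localized_essential S (LinearMap.range f) hess.essential N hN)
      obtain ⟨w, ⟨r, rfl⟩, s, rfl⟩ := (Submodule.mem_localized' (Localization S) S
        (LocalizedModule.mkLinearMap S X.carrier) _ _).1 hy
      refine (Submodule.ne_bot_iff _).2 ⟨_, ⟨hyN, LocalizedModule.mk r s, ?_⟩, hy0⟩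
      rw [← IsLocalizedModule.mk_eq_mk']
      exact LocalizedModule.map_mk S f r s
  refine (bijective_of_loc ℋ X.gr hm (g := 0) ((GrInj18.isGrHomDeg_zero_iff ℋ X.gr).2 hf.grHom)
    (fun x hx => ⟨1, m.toIdeal.primeCompl.one_mem, by rw [one_smul]; exact hf.injective (hx.trans (map_zero f).symm)⟩)
    fun y => ?_).2
  obtain ⟨z, hz⟩ := hL (LocalizedModule.mkLinearMap S _ y)
  induction z using LocalizedModule.induction_on with
  | h x t =>
  simp only [L, LocalizedModule.map_mk, LocalizedModule.mkLinearMap_apply] at hz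
  obtain ⟨v, hv⟩ := LocalizedModule.mk_eq.1 hz
  simp only [one_smul, Submonoid.smul_def] at hv
  exact ⟨v * t, fun h => (hmp.mem_or_mem h).elim v.2 t.2, (v : R) • x, by rw [map_smul, hv, mul_smul]⟩

/-- associated primes of a graded `m`-torsion module -/
theorem ass_of_torsion (hm : IsStarLocal 𝒜 m) {X : Type u} [AddCommGroup X] [Module R X]
    (𝒳 : ι → AddSubgroup X) [Decomposition 𝒳] [SetLike.GradedSMul 𝒜 𝒳]
    (htor : GrLC.gam m.toIdeal X = ⊤) {q : Ideal R} (hq : q ∈ associatedPrimes R X) : q = m.toIdeal := by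
  obtain ⟨hqp, x, hx⟩ := isAssociatedPrime_iff.1 hq
  obtain ⟨n, hn⟩ : x ∈ GrLC.gam m.toIdeal X := by rw [htor]; trivial
  have hmq : m.toIdeal ≤ q := fun r hr => hqp.mem_of_pow_mem n (by
    rw [hx, Submodule.mem_colon_singleton, Submodule.mem_bot]
    exact hn _ (Ideal.pow_mem_pow hr n))
  have hqh : q.IsHomogeneous 𝒜 := by
    by_contra hnh
    have hC := GrRing54.isPrime_homogeneousCore (𝒜 := 𝒜) q
    have : (q.map (Ideal.Quotient.mk (q.homogeneousCore 𝒜).toIdeal)).IsPrime :=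
      Ideal.map_isPrime_of_surjective Ideal.Quotient.mk_surjective
        (by rw [Ideal.mk_ker]; exact Ideal.toIdeal_homogeneousCore_le 𝒜 q)
    obtain ⟨d, hd⟩ := ENat.ne_top_iff_exists.1 (Ideal.height_ne_top_of_isPrime
      (I := q.map (Ideal.Quotient.mk (q.homogeneousCore 𝒜).toIdeal)))
    have h1 := (Bass.bass_core 𝒜 𝒳 (M := X) q d hd.symm).1
    refine (Bass.bassNum_zero_ne_zero_iff q).2 hq (h1 0 (Nat.pos_of_ne_zero fun h0 => hnh ?_))
    have hne : (⊥ : Ideal (R ⧸ (q.homogeneousCore 𝒜).toIdeal)) =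
        q.map (Ideal.Quotient.mk (q.homogeneousCore 𝒜).toIdeal) := by
      by_contra hne
      have hpos := Ideal.height_add_one_le_of_lt_of_isPrime (bot_lt_iff_ne_bot.2 (Ne.symm hne))
      rw [← hd, h0, Nat.cast_zero] at hpos
      simp at hpos
    rw [eq_comm, Ideal.map_eq_bot_iff_le_ker, Ideal.mk_ker] at hne
    rw [le_antisymm hne (Ideal.toIdeal_homogeneousCore_le 𝒜 q)]
    exact (q.homogeneousCore 𝒜).isHomogeneous
  refine le_antisymm ?_ hmq
  exact le_star hm (J := ⟨q, hqh⟩) fun h => hqp.ne_top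
    ((congrArg HomogeneousIdeal.toIdeal h).trans HomogeneousIdeal.toIdeal_top)

/-- Bass numbers of a module with finite injective dimension at `m` -/
theorem bass_eq_zero_of_injdim_loc {M : Type u} [AddCommGroup M] [Module R M] (n : ℕ)
    (h : HasInjectiveDimensionLT (ModuleCat.of (Localization.AtPrime m.toIdeal)
      (LocalizedModule m.toIdeal.primeCompl M)) n) (Q : Ideal R) [Q.IsPrime] (hQ : Q ≤ m.toIdeal)
    {i : ℕ} (hi : n ≤ i) : GrLC.bassNum Q M i = 0 := by
  rw [Bass.bassNum_eq_zero_iff]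
  obtain ⟨e1⟩ := ExtLocal.nonempty_equiv m.toIdeal.primeCompl M i (R ⧸ Q)
  have hs : Subsingleton (LocalizedModule m.toIdeal.primeCompl (CanonDual.EK (R := R) M (R ⧸ Q) i)) := by
    have := HasInjectiveDimensionLT.subsingleton (ModuleCat.of (Localization.AtPrime m.toIdeal)
      (LocalizedModule m.toIdeal.primeCompl M)) n i hi
      (ModuleCat.of (Localization.AtPrime m.toIdeal) (LocalizedModule m.toIdeal.primeCompl (R ⧸ Q)))
    exact e1.toEquiv.subsingleton
  intro x
  obtain ⟨v, hv, hvx⟩ := LocalizedModule.subsingleton_iff.1 hs x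
  exact ⟨v, fun h' => hv (hQ h'), hvx⟩

/-- Bass numbers at any prime from those below `m` -/
theorem bass_eq_zero_of_core (hm : IsStarLocal 𝒜 m) {M : Type u} [AddCommGroup M] [Module R M]
    (ℳ : ι → AddSubgroup M) [Decomposition ℳ] [SetLike.GradedSMul 𝒜 ℳ] (n : ℕ)
    (h : HasInjectiveDimensionLT (ModuleCat.of (Localization.AtPrime m.toIdeal)
      (LocalizedModule m.toIdeal.primeCompl M)) n) (P : Ideal R) [P.IsPrime] :
    ∃ N, ∀ i, N ≤ i → GrLC.bassNum P M i = 0 := by
  have hC := GrRing54.isPrime_homogeneousCore (𝒜 := 𝒜) P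
  have : (P.map (Ideal.Quotient.mk (P.homogeneousCore 𝒜).toIdeal)).IsPrime :=
    Ideal.map_isPrime_of_surjective Ideal.Quotient.mk_surjective
      (by rw [Ideal.mk_ker]; exact Ideal.toIdeal_homogeneousCore_le 𝒜 P)
  obtain ⟨d, hd⟩ := ENat.ne_top_iff_exists.1 (Ideal.height_ne_top_of_isPrime
    (I := P.map (Ideal.Quotient.mk (P.homogeneousCore 𝒜).toIdeal)))
  refine ⟨n + d, fun i hi => ?_⟩
  rw [show i = (i - d) + d by omega, (Bass.bass_core 𝒜 ℳ (M := M) P d hd.symm).2 (i - d)]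
  refine bass_eq_zero_of_injdim_loc n h _ (le_star hm fun htop => hC.ne_top
    ((congrArg HomogeneousIdeal.toIdeal htop).trans HomogeneousIdeal.toIdeal_top)) (by omega)

end Groth.Agent.GrMod19.Gor

namespace Groth.Agent.GrMod19.Gor

variable {R : Type u} [CommRing R] [IsNoetherianRing R] {ι : Type} [AddCommGroup ι] [DecidableEq ι]
  [Module.Free ℤ ι] [Module.Finite ℤ ι] {𝒜 : ι → AddSubgroup R} [GradedRing 𝒜]
  {m : HomogeneousIdeal 𝒜} [hmp : m.toIdeal.IsPrime]

/-- Gorenstein at `m` is enough -/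
theorem gorenstein_of_star (hm : IsStarLocal 𝒜 m)
    (h : LocCoh.IsGorensteinLocalRing (Localization.AtPrime m.toIdeal)) : LocCoh.IsGorensteinRing R where
  isGorensteinLocalRing_localization P hP := by
    let : Decomposition (GrMod19.selfPiece 𝒜) := inferInstance
    obtain ⟨n, hn⟩ := h.exists_hasInjectiveDimensionLT
    have eS : LocalizedModule m.toIdeal.primeCompl R ≃ₗ[Localization.AtPrime m.toIdeal]
        Localization.AtPrime m.toIdeal := LinearEquiv.refl _ _
    obtain ⟨N, hN⟩ := bass_eq_zero_of_core (M := R) hm (GrMod19.selfPiece 𝒜) n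
      (have := hn; hasInjectiveDimensionLT_of_iso eS.symm.toModuleIso n) P
    refine Gor18.gor_iff_ext.2 ⟨N, fun i hi => ?_⟩
    exact Module.length_eq_zero_iff.1 (hN i hi.le)

/-- in a Gorenstein *local ring the top cohomology is a shifted envelope -/
theorem exists_iso_hull [LocCoh.IsGorensteinRing R] (hm : IsStarLocal 𝒜 m) {n : ℕ}
    (hn : m.toIdeal.height = n) (I : StarInjRes 𝒜 𝒜) :
    Module.Injective (Localization.AtPrime m.toIdeal)
        (LocalizedModule m.toIdeal.primeCompl (I.H m n)) ∧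
    ∀ {E : Type u} [AddCommGroup E] [Module R E] (𝓔 : ι → AddSubgroup E) [Decomposition 𝓔]
      [SetLike.GradedSMul 𝒜 𝓔] (e : (R ⧸ m.toIdeal) →ₗ[R] E),
      IsStarInjHull 𝒜 (quotGr 𝒜 m) 𝓔 e →
        ∃ (g : ι) (φ : I.H m n ≃ₗ[R] E), IsGrHomDeg (I.Hgr m n) 𝓔 φ.toLinearMap g := by
  let S := m.toIdeal.primeCompl
  let Rm := Localization.AtPrime m.toIdeal
  have hgor : LocCoh.IsGorensteinLocalRing Rm :=
    LocCoh.IsGorensteinRing.isGorensteinLocalRing_localization m.toIdeal
  have hdim : ringKrullDim Rm = n := by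
    rw [IsLocalization.AtPrime.ringKrullDim_eq_height m.toIdeal Rm, hn]
    rfl
  obtain ⟨eH⟩ := nonempty_H_localized (m := m) I n
  obtain ⟨g₀, hg₀⟩ := Gor18.exists_hull_H Rm n hdim
  let g := eH.symm.toLinearMap ∘ₗ g₀
  have hinj : Module.Injective Rm (LocalizedModule S (I.H m n)) :=
    (Module.Baer.of_equiv eH.symm (Module.Baer.of_injective hg₀.isInjective)).injective
  refine ⟨hinj, fun {E} _ _ 𝓔 _ _ e he => ?_⟩
  let : Decomposition (I.Hgr m n) := (isInternal_Hgr I m n).chooseDecomposition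
  have : SetLike.GradedSMul 𝒜 (I.Hgr m n) := ⟨fun {i j} a x ha hx => by
    rw [vadd_eq_add, add_comm]; exact smul_mem_Hcomp I m n ha hx⟩
  -- a homogeneous socle element
  obtain ⟨z, hz⟩ : ∃ z : LocalizedModule S (I.H m n), z ≠ 0 := ⟨g 1, fun h =>
    one_ne_zero (hg₀.injective (eH.symm.injective (h.trans ((congrArg eH.symm g₀.map_zero).trans
      eH.symm.map_zero).symm)))⟩
  have hH : Nontrivial (I.H m n) := by
    rw [← not_subsingleton_iff_nontrivial]
    intro hs
    have : Subsingleton (LocalizedModule S (I.H m n)) :=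
      LocalizedModule.subsingleton_iff.2 fun x => ⟨1, S.one_mem, Subsingleton.elim _ _⟩
    exact hz (Subsingleton.elim _ _)
  obtain ⟨w, hw⟩ := exists_ne (0 : I.H m n)
  obtain ⟨d0, hd0⟩ : ∃ d, GrInj18.cmp (I.Hgr m n) d w ≠ 0 := by
    by_contra! h; exact hw (GrInj18.eq_zero_of_cmp _ h)
  obtain ⟨y, d, hy, hy0, hym⟩ : ∃ (y : I.H m n) (d : ι), y ∈ I.Hgr m n d ∧ y ≠ 0 ∧
      ∀ r ∈ m.toIdeal, r • y = 0 := by
    obtain ⟨eL⟩ := nonempty_H_equiv I m n
    obtain ⟨k, hk⟩ := LC15.isPowerTorsion_H m.toIdeal n (M := R) (eL (GrInj18.cmp (I.Hgr m n) d0 w))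
    have hk' : ∀ a ∈ m.toIdeal ^ k, a • GrInj18.cmp (I.Hgr m n) d0 w = 0 := fun a ha =>
      eL.injective (by rw [map_smul, map_zero]; exact hk a ha)
    clear hk
    induction k generalizing d0 w with
    | zero => exact absurd (by simpa using hk' 1) hd0
    | succ k ih =>
      by_cases hall : ∀ r ∈ m.toIdeal, r • GrInj18.cmp (I.Hgr m n) d0 w = 0
      · exact ⟨_, d0, GrInj18.cmp_mem _ d0 w, hd0, hall⟩
      push Not at hall
      obtain ⟨r, hr, hrw⟩ := hall
      obtain ⟨i, hi⟩ : ∃ i, GrInj18.cmp 𝒜 i r • GrInj18.cmp (I.Hgr m n) d0 w ≠ 0 := by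
        by_contra! h
        obtain ⟨t, ht⟩ := GrInj18.exists_sum_cmp 𝒜 r
        exact hrw (by rw [← ht, Finset.sum_smul]; exact Finset.sum_eq_zero fun i _ => h i)
      have hmem : GrInj18.cmp 𝒜 i r • GrInj18.cmp (I.Hgr m n) d0 w ∈ I.Hgr m n (i + d0) :=
        GrInj18.smul_mem_add 𝒜 (I.Hgr m n) (GrInj18.cmp_mem 𝒜 i r) (GrInj18.cmp_mem _ d0 w)
      refine ih (GrInj18.cmp 𝒜 i r • GrInj18.cmp (I.Hgr m n) d0 w) ?_ (i + d0) ?_ ?_
      · exact fun h => hi (by rw [h])
      · rwa [GrInj18.cmp_of_mem _ hmem]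
      · intro a ha
        rw [GrInj18.cmp_of_mem _ hmem, ← mul_smul]
        refine hk' _ ?_
        rw [pow_succ]
        exact Ideal.mul_mem_mul ha (m.isHomogeneous i hr)
  let φ0 : (R ⧸ m.toIdeal) →ₗ[R] I.H m n :=
    Submodule.liftQ m.toIdeal (LinearMap.toSpanSingleton R _ y) fun r hr => hym r hr
  have hφ0 : IsGrHomDeg (quotGr 𝒜 m) (I.Hgr m n) φ0 d := by
    rintro i _ ⟨a, ha, rfl⟩
    exact GrInj18.smul_mem_add 𝒜 (I.Hgr m n) (show a ∈ 𝒜 i from ha) hy
  have hφ0i : Function.Injective φ0 := (injective_iff_map_eq_zero _).2 fun t ht => by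
    obtain ⟨a, rfl⟩ := Submodule.Quotient.mk_surjective _ t
    refine (Submodule.Quotient.mk_eq_zero _).2 (by_contra fun ha => hy0 ?_)
    exact eq_zero_of_killed (I.Hgr m n) hm ha hy ht
  obtain ⟨f, hf, hfe⟩ := GrMod19.exists_extend (isStarInj_of_loc_injective hm (I.Hgr m n) hinj)
    (GrLC.GMod.of 𝒜 (R ⧸ m.toIdeal) (quotGr 𝒜 m)) (GrLC.GMod.of 𝒜 E 𝓔) e he.grHom he.injective φ0 d hφ0
  let f' : E →ₗ[R] I.H m n := f
  have hf' : IsGrHomDeg 𝓔 (I.Hgr m n) f' d := hf
  have hfinj : Function.Injective f' := by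
    refine LinearMap.ker_eq_bot.1 (by_contra fun hne => ?_)
    obtain ⟨x, ⟨hx, t, rfl⟩, hx0⟩ := (Submodule.ne_bot_iff _).1 (he.essential (LinearMap.ker f')
      (GrInj18.isHomogeneous_of_cmp 𝓔 fun i x hx => by
        rw [LinearMap.mem_ker, GrInj18.map_cmp_deg 𝓔 (I.Hgr m n) hf', LinearMap.mem_ker.1 hx, map_zero]) hne)
    have : φ0 t = 0 := (LinearMap.congr_fun hfe t).symm.trans hx
    exact hx0 (by rw [hφ0i (this.trans (map_zero φ0).symm), map_zero])
  obtain ⟨g₁, hg₁⟩ := exists_hull_localized 𝓔 he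
  let L : LocalizedModule S E →ₗ[Rm] LocalizedModule S (I.H m n) := LocalizedModule.map S f'
  have hLi : Function.Injective L := LocalizedModule.map_injective S f' hfinj
  have hsimple : IsSimpleModule Rm (IsLocalRing.ResidueField Rm) :=
    isSimpleModule_iff_isCoatom.2 (IsLocalRing.maximalIdeal.isMaximal Rm).out
  have hcov : ∀ N : Submodule Rm (LocalizedModule S (I.H m n)), N ≠ ⊥ → LinearMap.range g ≤ N := by
    intro N hN
    have hne : N.comap g ≠ ⊥ := by
      have hNe : N.comap eH.symm.toLinearMap ≠ ⊥ := by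
        obtain ⟨x, hx, hx0⟩ := (Submodule.ne_bot_iff _).1 hN
        exact (Submodule.ne_bot_iff _).2 ⟨eH x, by
          rw [Submodule.mem_comap, LinearEquiv.coe_coe, eH.symm_apply_apply]; exact hx,
          fun h => hx0 (eH.injective (h.trans eH.map_zero.symm))⟩
      obtain ⟨x, ⟨hx, t, rfl⟩, hx0⟩ := (Submodule.ne_bot_iff _).1 (hg₀.essential _ hNe)
      exact (Submodule.ne_bot_iff _).2 ⟨t, hx, fun h => hx0 (by rw [h, map_zero])⟩
    have htop := (hsimple.1.eq_bot_or_eq_top (N.comap g)).resolve_left hne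
    rintro _ ⟨t, rfl⟩
    exact (htop.ge Submodule.mem_top : t ∈ N.comap g)
  have hLs : Function.Surjective L := surjective_of_essential hg₁.isInjective L hLi fun N hN => by
    have hLne : LinearMap.range L ≠ ⊥ := fun h => by
      have hz' := LinearMap.range_eq_bot.1 h
      exact one_ne_zero (hg₁.injective (hLi (by rw [hz', LinearMap.zero_apply, LinearMap.zero_apply])))
    refine fun hbot => one_ne_zero (hg₀.injective (eH.symm.injective ?_))
    have h1 : g 1 ∈ N ⊓ LinearMap.range L := ⟨hcov N hN ⟨1, rfl⟩, hcov _ hLne ⟨1, rfl⟩⟩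
    rw [hbot, Submodule.mem_bot] at h1
    exact h1.trans (by rw [map_zero, map_zero])
  have hbij : Function.Bijective f' := bijective_of_loc 𝓔 (I.Hgr m n) hm hf'
    (fun x hx => ⟨1, S.one_mem, by rw [one_smul]; exact hfinj (hx.trans (map_zero f').symm)⟩) fun y => by
    obtain ⟨z, hz⟩ := hLs (LocalizedModule.mkLinearMap S _ y)
    induction z using LocalizedModule.induction_on with
    | h x t =>
    rw [show L (LocalizedModule.mk x t) = LocalizedModule.mk (f' x) t from LocalizedModule.map_mk S f' x t,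
      LocalizedModule.mkLinearMap_apply] at hz
    obtain ⟨v, hv⟩ := LocalizedModule.mk_eq.1 hz
    simp only [one_smul, Submonoid.smul_def] at hv
    exact ⟨v * t, fun h => (hmp.mem_or_mem h).elim v.2 t.2, (v : R) • x, by rw [map_smul, hv, mul_smul]⟩
  refine ⟨-d, (LinearEquiv.ofBijective f' hbij).symm, fun i x hx => ?_⟩
  obtain ⟨u, rfl⟩ := hbij.2 x
  change (LinearEquiv.ofBijective f' hbij).symm (f' u) ∈ 𝓔 (i + -d)
  rw [show (LinearEquiv.ofBijective f' hbij).symm (f' u) = u from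
    (LinearEquiv.ofBijective f' hbij).symm_apply_apply u]
  have hc : GrInj18.cmp 𝓔 (i + -d) u = u := hbij.1 (by
    rw [GrInj18.map_cmp_deg 𝓔 (I.Hgr m n) hf', neg_add_cancel_right]
    exact GrInj18.cmp_of_mem _ hx)
  rw [← hc]
  exact GrInj18.cmp_mem 𝓔 _ u

end Groth.Agent.GrMod19.Gor
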