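import Groth.Agent.GrMod19.Gor.GorPair
import Groth.Agent.GrMod19.Ver.Gor
import Groth.Agent.GrMod19.Gor.CanonField
import Groth.Agent.GrInj18.Res
import Groth.Agent.GrInj18.Hull
import Groth.Agent.S18640

/-!
The type of a graded Gorenstein ring.
-/

universe u

open DirectSum GrLC
open scoped TensorProduct

namespace Groth.Agent.GrMod19.Gor

set_option autoImplicit false

variable {R : Type u} [CommRing R] [IsNoetherianRing R] [LocCoh.IsGorensteinRing R] {𝒜 : ℤ → AddSubgroup R}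
  [GradedRing 𝒜]

/-- a Gorenstein graded ring has type one -/
theorem bassNum_eq_one (hpos : ∀ k : ℤ, k < 0 → 𝒜 k = ⊥) (h0 : IsField (deg0 𝒜))
    {m : HomogeneousIdeal 𝒜} (hm : IsStarLocal 𝒜 m) [m.toIdeal.IsMaximal]
    (hmsp : m.toIdeal = Ideal.span (⋃ k ∈ Set.Ioi (0 : ℤ), (𝒜 k : Set R))) {n : ℕ}
    (hn : ringKrullDim R = n) : bassNum m.toIdeal R n = 1 := by
  have := cm_of_gorenstein R
  obtain ⟨I⟩ := GrInj18.nonempty_starInjRes 𝒜 𝒜
  obtain ⟨a, β, hβ, -⟩ := exists_perfect_gor hpos h0 hm hmsp hn I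
  obtain ⟨X, e, he⟩ := GrInj18.exists_isStarInjHull 𝒜 (GrLC.quotGr 𝒜 m)
  let C := shift (GrMod19.self 𝒜) a
  have : Module.Finite R C.carrier := (inferInstance : Module.Finite R R)
  rw [(S18640.result R 𝒜 hpos h0 m hm hmsp n hn I X.carrier X.gr e he _ C.gr
    (Pairing.starCanonical_of_perfect hpos h0 hm hmsp he C.gr hβ)).2]
  let k := R ⧸ m.toIdeal
  let eC : k ⊗[R] C.carrier ≃ₗ[k] k :=
    TensorProduct.AlgebraTensorModule.rid R k k
  rw [eC.finrank_eq, Module.finrank_self, Nat.cast_one]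

end Groth.Agent.GrMod19.Gor
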